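import Cfsg.Agent.McLRankThree.Model

/-!
# The symmetries of the graph fixing a point

There are at most twice as many as in the standard group.
-/

set_option autoImplicit false
set_option maxRecDepth 100000
set_option maxHeartbeats 2000000
set_option Elab.async false

namespace CfsgLib.McLRankThree

open MulAction

attribute [local irreducible] adjRows permBits

/-- The symmetries fixing the first point. -/
def Aut0 : Subgroup (Equiv.Perm V) where
  carrier := {x | x 0 = 0 ∧ ∀ i j, Adj (x i) (x j) = Adj i j}
  one_mem' := ⟨rfl, fun _ _ => rfl⟩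
  mul_mem' := fun {x y} hx hy => ⟨by simp [hy.1, hx.1], fun i j => by simp [hx.2, hy.2]⟩
  inv_mem' := fun {x} hx => ⟨Equiv.Perm.inv_eq_iff_eq.mpr hx.1.symm,
    fun i j => by rw [← hx.2]; simp⟩

/-- A point is determined by its pattern on fixed points. -/
def Alike (F : List V) (b w : V) : Prop := w ∉ F ∧ ∀ f ∈ F, Adj w f = Adj b f

instance (F : List V) (b w : V) : Decidable (Alike F b w) := inferInstanceAs (Decidable (_ ∧ _))

theorem cand_ok :
    (Finset.univ.filter (Alike [0] 1)).card ≤ 112 ∧
    (Finset.univ.filter (Alike [0, 1] 2)).card ≤ 81 ∧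
    (Finset.univ.filter (Alike [0, 1, 2] 30)).card ≤ 20 ∧
    (Finset.univ.filter (Alike [0, 1, 2, 30] 40)).card ≤ 9 ∧
    (Finset.univ.filter (Alike [0, 1, 2, 30, 40] 159)).card ≤ 4 := by
  decide +kernel

theorem image_alike {x : Equiv.Perm V} (hx : x ∈ Aut0) {F : List V} (hF : ∀ f ∈ F, x f = f) {b : V} (hb : b ∉ F) :
    Alike F b (x b) := by
  refine ⟨fun h => hb ?_, fun f hf => ?_⟩
  · rwa [← x.injective (hF _ h)]
  · conv_lhs => rw [← hF f hf]
    exact hx.2 b f

theorem card_step (A : Subgroup (Equiv.Perm V)) (hA : A ≤ Aut0) (F : List V) (hF : ∀ x ∈ A, ∀ f ∈ F, x f = f)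
    (b : V) (hb : b ∉ F) {n m : ℕ} (hn : (Finset.univ.filter (Alike F b)).card ≤ n)
    (hm : Nat.card (A ⊓ stabilizer (Equiv.Perm V) b : Subgroup (Equiv.Perm V)) ≤ m) : Nat.card A ≤ n * m := by
  classical
  rw [← (stabilizer A b).card_mul_index, index_stabilizer, mul_comm]
  refine Nat.mul_le_mul ?_ (le_trans (le_of_eq (Nat.card_congr ?_)) hm)
  · refine le_trans (Set.ncard_le_ncard (t := (Finset.univ.filter (Alike F b) : Set V)) ?_) ?_
    · rintro _ ⟨x, rfl⟩
      simp only [Finset.coe_filter, Finset.mem_univ, true_and, Set.mem_ofPred_eq]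
      exact image_alike (hA x.2) (hF x x.2) hb
    · rwa [Set.ncard_coe_finset]
  · exact
      { toFun := fun k => ⟨k.1.1, k.1.2, k.2⟩
        invFun := fun k => ⟨⟨k.1, k.2.1⟩, k.2.2⟩
        left_inv := fun _ => rfl
        right_inv := fun _ => rfl }

/-- The rounds in which the points become fixed. -/
def rounds : List (List ℕ) := [
  [13,48,89,92,93,97,107,108,125,139,169,177,193,274],
  [3,4,5,7,8,9,10,11,12,14,15,16,17,18,19,21,22,24,25,26,27,28,31,32,34,35,36,37,38,39,41,42,43,44,47,49,50,51,52,53,54,56,58,59,60,61,62,63,64,66,68,69,71,73,75,76,77,78,79,80,81,82,85,86,87,88,94,96,99,100,101,102,103,106,109,110,114,115,116,117,118,119,120,121,123,124,126,127,128,130,131,132,135,136,137,138,140,141,143,144,145,147,148,149,150,151,153,154,155,157,158,160,161,162,163,164,167,168,170,171,172,173,175,176,178,179,181,182,183,184,185,187,189,191,192,194,196,197,198,199,200,202,204,205,206,207,208,209,212,213,214,215,216,217,218,219,220,221,222,223,224,225,226,227,228,229,230,232,233,234,235,239,240,241,243,245,246,248,251,252,253,254,255,256,257,258,259,260,261,263,264,265,267,268,271,272,273],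
  [6,20,23,29,33,45,46,55,57,65,67,70,72,74,83,84,90,91,95,98,104,105,111,112,113,122,129,133,134,142,146,152,156,165,166,174,180,186,188,190,195,201,203,210,211,231,236,237,238,242,244,247,249,250,262,266,269,270]]

/-- The set of numbers in a list, as bits. -/
def maskOf (l : List ℕ) : ℕ := l.foldr (fun x m => m ||| (1 <<< x)) 0

/-- Each point of a round is alone with its pattern. -/
def roundsOK : List (List ℕ) → List ℕ → Bool
  | [], F => (List.range 275).all (F.contains ·)
  | R :: rest, F =>
    let m := maskOf F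
    (R.all fun v => decide (v < 275) && !m.testBit v &&
      (List.range 275).all fun w => w == v || m.testBit w ||
        (adjRows.getD w 0 &&& m) != (adjRows.getD v 0 &&& m)) && roundsOK rest (R ++ F)

theorem rounds_ok : roundsOK rounds [0, 1, 2, 30, 40, 159] = true := by decide +kernel

theorem testBit_maskOf : ∀ (l : List ℕ) (i : ℕ), (maskOf l).testBit i = l.contains i
  | [], i => by simp [maskOf]
  | a :: l, i => by
    have ih := testBit_maskOf l i
    simp only [maskOf, List.foldr_cons, Nat.testBit_or, List.contains_cons] at ih ⊢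
    rw [ih, Nat.one_shiftLeft, Nat.testBit_two_pow, Bool.or_comm]
    congr 1
    simp [eq_comm, beq_eq_decide]

theorem fixed_of_rounds {x : Equiv.Perm V} (hx : x ∈ Aut0) : ∀ (Rs : List (List ℕ)) (F : List ℕ),
    (∀ v : V, v.val ∈ F → x v = v) → (∀ f ∈ F, f < 275) → roundsOK Rs F = true → x = 1
  | [], F, hF, _, h => Equiv.ext fun v => hF v (by
      simp only [roundsOK, List.all_eq_true, List.contains_iff_mem] at h
      exact h v.val (List.mem_range.mpr v.isLt))
  | R :: rest, F, hF, hlt, h => by
    simp only [roundsOK, Bool.and_eq_true, List.all_eq_true, decide_eq_true_eq, Bool.not_eq_true',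
      Bool.or_eq_true, beq_iff_eq, bne_iff_ne, testBit_maskOf] at h
    obtain ⟨hR, hrest⟩ := h
    refine fixed_of_rounds hx rest (R ++ F) (fun v hv => ?_) ?_ hrest
    · rcases List.mem_append.mp hv with hv | hv
      · obtain ⟨⟨-, hnot⟩, huniq⟩ := hR v.val hv
        have hnot' : v.val ∉ F := by simpa using hnot
        rcases huniq (x v).val (List.mem_range.mpr (x v).isLt) with (e | e) | e
        · exact Fin.ext e
        · exact x.injective (hF _ (List.contains_iff_mem.mp e))
        · refine absurd (Nat.eq_of_testBit_eq fun f => ?_) e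
          simp only [Nat.testBit_and, testBit_maskOf]
          rcases Bool.eq_false_or_eq_true (F.contains f) with hf | hf
          · have hmem := List.contains_iff_mem.mp hf
            have hfix := hF ⟨f, hlt f hmem⟩ hmem
            have := hx.2 v ⟨f, hlt f hmem⟩
            rw [hfix] at this
            simp only [Adj] at this
            rw [hf, this]
          · have hf' : f ∉ F := by simpa using hf
            simp [hf']
      · exact hF v hv
    · intro f hf
      rcases List.mem_append.mp hf with hf | hf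
      exacts [(hR f hf).1.1, hlt f hf]

theorem card_Aut0 : Nat.card Aut0 ≤ 2 * 3265920 := by
  obtain ⟨c1, c2, c3, c4, c5⟩ := cand_ok
  let st : V → Subgroup (Equiv.Perm V) := stabilizer (Equiv.Perm V)
  rw [show 2 * 3265920 = 112 * (81 * (20 * (9 * (4 * 1)))) by norm_num]
  refine card_step Aut0 le_rfl [0] (fun x hx f hf => ?_) 1 (by decide) c1 ?_
  · simp only [List.mem_singleton] at hf
    exact hf ▸ hx.1
  refine card_step _ inf_le_left [0, 1] (fun x hx f hf => ?_) 2 (by decide) c2 ?_
  · simp only [List.mem_cons, List.not_mem_nil, or_false] at hf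
    rcases hf with rfl | rfl
    exacts [hx.1.1, hx.2]
  refine card_step _ (inf_le_left.trans inf_le_left) [0, 1, 2] (fun x hx f hf => ?_) 30 (by decide) c3 ?_
  · simp only [List.mem_cons, List.not_mem_nil, or_false] at hf
    rcases hf with rfl | rfl | rfl
    exacts [hx.1.1.1, hx.1.2, hx.2]
  refine card_step _ (inf_le_left.trans (inf_le_left.trans inf_le_left)) [0, 1, 2, 30] (fun x hx f hf => ?_) 40
    (by decide) c4 ?_
  · simp only [List.mem_cons, List.not_mem_nil, or_false] at hf
    rcases hf with rfl | rfl | rfl | rfl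
    exacts [hx.1.1.1.1, hx.1.1.2, hx.1.2, hx.2]
  refine card_step _ (inf_le_left.trans (inf_le_left.trans (inf_le_left.trans inf_le_left))) [0, 1, 2, 30, 40]
    (fun x hx f hf => ?_) 159 (by decide) c5 ?_
  · simp only [List.mem_cons, List.not_mem_nil, or_false] at hf
    rcases hf with rfl | rfl | rfl | rfl | rfl
    exacts [hx.1.1.1.1.1, hx.1.1.1.2, hx.1.1.2, hx.1.2, hx.2]
  refine le_of_eq ?_
  rw [Subgroup.card_eq_one, eq_bot_iff]
  intro x hx
  refine Subgroup.mem_bot.mpr (fixed_of_rounds hx.1.1.1.1.1 rounds _ ?_ (by decide) rounds_ok)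
  intro v hv
  simp only [List.mem_cons, List.not_mem_nil, or_false] at hv
  have e : v = 0 ∨ v = 1 ∨ v = 2 ∨ v = 30 ∨ v = 40 ∨ v = 159 := by
    rcases hv with h | h | h | h | h | h <;> simp [Fin.ext_iff, h]
  rcases e with rfl | rfl | rfl | rfl | rfl | rfl
  exacts [hx.1.1.1.1.1.1, hx.1.1.1.1.2, hx.1.1.1.2, hx.1.1.2, hx.1.2, hx.2]

end CfsgLib.McLRankThree
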