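import Cfsg.Agent.McLRankThree.Label
import Cfsg.Agent.McLRankThree.Bound

/-!
# A rank three group on 275 points is the McLaughlin group

In coordinates the group preserves the standard graph and has the standard point stabiliser, and the standard
stabiliser has index at most two in the stabiliser in the automorphism group of the graph.
-/

set_option autoImplicit false
set_option maxRecDepth 100000
set_option maxHeartbeats 1000000
set_option linter.style.haveILetI false

namespace CfsgLib.McLRankThree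

open MulAction

attribute [local irreducible] adjRows permBits tauBits

theorem M0_le_Aut0 : M0 ≤ Aut0 := fun _ hm => ⟨M0_zero hm, adj_M0 hm⟩

theorem mul_inv_mem_M0 {x y : Equiv.Perm V} (hx : x ∈ Aut0) (hy : y ∈ Aut0) (hx' : x ∉ M0) (hy' : y ∉ M0) :
    x * y⁻¹ ∈ M0 := by
  let H : Subgroup Aut0 := M0.subgroupOf Aut0
  have hc : Nat.card H = 3265920 := by
    rw [Nat.card_congr (Subgroup.subgroupOfEquivOfLe M0_le_Aut0).toEquiv, card_M0]
  have h1 := H.card_mul_index
  have h2 := card_Aut0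
  rw [hc] at h1
  have hpos : 0 < H.index := Nat.pos_of_ne_zero Subgroup.index_ne_zero_of_finite
  have hne : H.index ≠ 1 := fun h => hx' (by
    have : (⟨x, hx⟩ : Aut0) ∈ H := by rw [Subgroup.index_eq_one.mp h]; exact Subgroup.mem_top _
    exact this)
  have h2' : H.index = 2 := by omega
  have := (Subgroup.mul_mem_iff_of_index_two h2' (a := (⟨x, hx⟩ : Aut0)) (b := ⟨y, hy⟩⁻¹)).mpr
    (iff_of_false hx' fun h => hy' (by simpa [H, Subgroup.mem_subgroupOf] using inv_mem h))
  exact this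

variable {Ω : Type*} [Fintype Ω] [DecidableEq Ω] {G : Subgroup (Equiv.Perm Ω)} {a b c : Ω}

theorem card_group (h : Hyp G a b c) : Nat.card G = 275 * 3265920 := by
  obtain ⟨ψ⟩ := h.iso
  have ho : orbit G a = Set.univ := Set.eq_univ_of_forall fun y => by
    obtain ⟨g, hg, e⟩ := h.trans a y
    exact ⟨⟨g, hg⟩, e⟩
  rw [← (stabilizer G a).index_mul_card, index_stabilizer, ho, Set.ncard_univ, Nat.card_eq_fintype_card, h.card,
    ← Nat.card_congr ψ.toEquiv, card_M0]

/-- The recognition theorem. -/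
theorem isMcL (h : Hyp G a b c) : Cfsg.Spor.IsoMcL G := by
  classical
  obtain ⟨π, π0, hAdj, hlift⟩ := exists_coords h
  let ψ : G →* Equiv.Perm V := (π.symm.permCongrHom.toMonoidHom).comp G.subtype
  have ψapp : ∀ (g : G) (v : V), ψ g v = π.symm ((g : Equiv.Perm Ω) (π v)) := fun g v => rfl
  have ψinj : Function.Injective ψ := π.symm.permCongrHom.injective.comp Subtype.val_injective
  have hauto : ∀ x ∈ ψ.range, ∀ i j, Adj (x i) (x j) = Adj i j := by
    rintro x ⟨g, rfl⟩ i j
    rw [Bool.eq_iff_iff, ← hAdj, ← hAdj, ψapp, ψapp, Equiv.apply_symm_apply, Equiv.apply_symm_apply,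
      rel_map_iff g.2]
  have hstab : ∀ x ∈ ψ.range, x 0 = 0 → x ∈ M0 := by
    rintro x ⟨g, rfl⟩ h0
    have ga : (g : Equiv.Perm Ω) a = a := by
      rw [ψapp, Equiv.symm_apply_eq, π0] at h0
      exact h0
    obtain ⟨m, hm, e⟩ := hlift g g.2 ga
    have : ψ g = m := Equiv.ext fun v => by rw [ψapp, e, Equiv.symm_apply_apply]
    exact this ▸ hm
  have htr : ∀ i : V, ∃ x ∈ ψ.range, x 0 = i := fun i => by
    obtain ⟨g, hg, e⟩ := h.trans a (π i)
    exact ⟨ψ ⟨g, hg⟩, ⟨_, rfl⟩, by rw [ψapp, π0]; simp [e]⟩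
  have hcard : Nat.card ψ.range = 898128000 := by
    rw [← Nat.card_congr (MonoidHom.ofInjective ψinj).toEquiv, card_group h]
  have hout : ∀ g k : Equiv.Perm V, g ∈ ψ.range → k ∈ ψ.range → g ∉ M → k ∉ M → g * k⁻¹ ∈ M := by
    intro g k hg hk hg' hk'
    have split : ∀ g : Equiv.Perm V, g ∈ ψ.range → g ∉ M → ∃ m ∈ M, m⁻¹ * g ∈ Aut0 ∧ m⁻¹ * g ∉ M0 := by
      intro g hg hg'
      obtain ⟨m, hm, e⟩ := M_transitive 0 (g 0)
      refine ⟨m, hm, ⟨?_, fun i j => ?_⟩, fun hx => hg' ?_⟩
      · rw [Equiv.Perm.mul_apply, ← e]; simp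
      · rw [Equiv.Perm.mul_apply, Equiv.Perm.mul_apply, adj_M (inv_mem hm), hauto g hg]
      · simpa using mul_mem hm (M0_le_M hx)
    obtain ⟨m, hm, hxA, hxM⟩ := split g hg hg'
    obtain ⟨n, hn, hyA, hyM⟩ := split k hk hk'
    have := mul_mem (mul_mem hm (M0_le_M (mul_inv_mem_M0 hxA hyA hxM hyM))) (inv_mem hn)
    simpa [mul_assoc] using this
  have hle : ψ.range ≤ M := by
    by_contra hnle
    obtain ⟨g0, hg0, hg0'⟩ := SetLike.not_le_iff_exists.mp hnle
    let K : Subgroup ψ.range := M.subgroupOf ψ.range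
    have h2 : K.index = 2 := by
      refine Subgroup.index_eq_two_iff.mpr ⟨⟨g0, hg0⟩, fun x => ?_⟩
      by_cases hx : x ∈ K
      · exact Or.inr ⟨hx, fun hxg => hg0' (by
          have := mul_mem (inv_mem (show (x : Equiv.Perm V) ∈ M from hx)) (show (x : Equiv.Perm V) * g0 ∈ M from hxg)
          simpa using this)⟩
      · exact Or.inl ⟨(by simpa using hout x g0⁻¹ x.2 (inv_mem hg0) hx (fun hh => hg0' (by simpa using inv_mem hh)) :
          (x : Equiv.Perm V) * g0 ∈ M), hx⟩
    have h275 : (stabilizer ψ.range (0 : V)).index = 275 := by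
      rw [index_stabilizer, Set.eq_univ_of_forall (s := orbit ψ.range (0 : V)) fun i => by
        obtain ⟨x, hx, e⟩ := htr i
        exact ⟨⟨x, hx⟩, e⟩, Set.ncard_univ, Nat.card_fin]
    have hdvd := Subgroup.index_dvd_of_le (H := stabilizer ψ.range (0 : V)) (K := K)
      fun x hx => M0_le_M (hstab x x.2 hx)
    rw [h2, h275] at hdvd
    norm_num at hdvd
  have heq : ψ.range = M := Subgroup.eq_of_le_of_card_ge hle (by rw [hcard, card_M])
  obtain ⟨E⟩ := M_isMcL
  exact ⟨(MonoidHom.ofInjective ψinj).trans ((MulEquiv.subgroupCongr heq).trans E)⟩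

end CfsgLib.McLRankThree
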