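import Cfsg.Agent.McLRankThree.Data
import Cfsg.Agent.McLU43.LatMat

/-!
# Checks on the tables of 275 points
-/

set_option autoImplicit false
set_option maxRecDepth 100000
set_option maxHeartbeats 2000000
set_option Elab.async false

namespace CfsgLib.McLRankThree

open Cfsg CfsgLib CfsgLib.Golay
open Cfsg.Agent.McLSimple (dotL enc toL)
open Cfsg.Agent.McLU43 (ofL rawL)

attribute [local irreducible] CfsgLib.Leech.shortVecs CfsgLib.Leech.halfTable CfsgLib.Leech.quarterTable

/-- The inner product of two lists of naturals. -/
def natDot : List ℕ → List ℕ → ℕ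
  | a :: x, b :: y => a * b + natDot x y
  | _, _ => 0

/-- The sum of a list of naturals. -/
def natSum : List ℕ → ℕ
  | a :: x => a + natSum x
  | [] => 0

/-- The shift back. -/
def lower (l : List ℕ) : List ℤ := l.map fun a : ℕ => (a : ℤ) - 4

theorem dot_lower : ∀ a b : List ℕ, a.length = b.length →
    dotL (lower a) (lower b) = (natDot a b : ℤ) - 4 * ((natSum a : ℤ) + natSum b) + 16 * a.length
  | [], [], _ => rfl
  | a :: x, b :: y, h => by
    have ih := dot_lower x y (by simpa using h)
    simp only [lower, dotL, List.map_cons, List.zipWith_cons_cons, List.sum_cons, natDot, natSum, List.length_cons]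
      at ih ⊢
    rw [ih]
    push_cast
    ring

theorem vecN_ok : vecN.map lower = vecL ∧ (vecN.all fun x => decide (x.length = 24)) = true ∧
    vecN.length = 275 ∧ adjRows.length = 275 := by decide +kernel

/-- Agreement of some rows of the graph with the inner products. -/
def rowsOK (k : ℕ) : Bool :=
  ((((vecN.zip adjRows).drop (25 * k)).take 25).all fun x => vecN.zipIdx.all fun y =>
    x.2.testBit y.2 == Nat.beq (natDot x.1 y.1 + 384) (8 + 4 * (natSum x.1 + natSum y.1)))

theorem rows0 : rowsOK 0 = true := by decide +kernel
theorem rows1 : rowsOK 1 = true := by decide +kernel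
theorem rows2 : rowsOK 2 = true := by decide +kernel
theorem rows3 : rowsOK 3 = true := by decide +kernel
theorem rows4 : rowsOK 4 = true := by decide +kernel
theorem rows5 : rowsOK 5 = true := by decide +kernel
theorem rows6 : rowsOK 6 = true := by decide +kernel
theorem rows7 : rowsOK 7 = true := by decide +kernel
theorem rows8 : rowsOK 8 = true := by decide +kernel
theorem rows9 : rowsOK 9 = true := by decide +kernel
theorem rows10 : rowsOK 10 = true := by decide +kernel

/-- An entry of a packed permutation. -/
def getP (P i : ℕ) : ℕ := (P >>> (9 * i)) &&& 511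

/-- The tests on a point. -/
def ptOK (xs : List ℤ) : Bool :=
  decide (Leech.LeechTest (ofL xs)) && decide (sqNorm (ofL xs) = 32) &&
    decide (ofL xs none + ofL xs (some 0) = 4) && decide ((∑ p, ofL xs p) = 24 - 4 * ofL xs none) &&
    decide (toL (ofL xs) = xs)

theorem pts_ok : (vecL.all ptOK) = true := by decide +kernel

/-- A generator moves some points as tabulated. -/
def genOK (l : Fin 6) : Bool :=
  (((List.range 275).zip vecL)).all fun x => decide (∀ p,
    rawL l false x.2 p = 8 * ofL (vecL.getD (getP (permBits.getD (2 * l.val) 0) x.1) []) p)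

theorem gen0 : genOK 0 = true := by decide +kernel
theorem gen1 : genOK 1 = true := by decide +kernel
theorem gen2 : genOK 2 = true := by decide +kernel
theorem gen3 : genOK 3 = true := by decide +kernel
theorem gen4 : genOK 4 = true := by decide +kernel
theorem gen5 : genOK 5 = true := by decide +kernel

theorem vec_keys : (vecL.map enc).Nodup ∧ vecL.length = 275 := by decide +kernel

end CfsgLib.McLRankThree
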