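import Cfsg.Agent.McLRankThree.Data

/-!
# The hemisystems through two adjacent points

Every set meeting each line in two points and containing the two given points is in the table.
-/

set_option autoImplicit false
set_option maxRecDepth 100000
set_option maxHeartbeats 2000000
set_option Elab.async false

namespace CfsgLib.McLRankThree

/-- A set of bits has too many members on a line. -/
def crowded (qs : List (List ℕ)) (T : ℕ) : Bool := qs.any fun q => decide (2 < q.countP T.testBit)

/-- The search. -/
def search : List (ℕ × List (List ℕ)) → ℕ → ℕ → Bool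
  | [], T, _ => sols.any fun s => s.1 == T
  | (v, qs) :: r, T, F =>
    (crowded qs (T ||| (1 <<< v)) || search r (T ||| (1 <<< v)) F) &&
      (crowded qs (F ||| (1 <<< v)) || search r T (F ||| (1 <<< v)))

/-- The variables with their lines. -/
def vars : List (ℕ × List (List ℕ)) :=
  (searchOrder.drop 2).map fun v => (v, quadL.filter fun q => q.contains v)

theorem search_ok : search vars ((1 <<< 1) ||| (1 <<< 38)) 0 = true := by decide +kernel

theorem order_ok : (∀ v : Fin 113, v.val = 0 ∨ v.val = 1 ∨ v.val = 38 ∨ v.val ∈ searchOrder.drop 2) ∧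
    (quadL.all fun q => decide (q.length = 4)) = true := by decide +kernel

theorem testBit_or_shift (T v i : ℕ) : (T ||| (1 <<< v)).testBit i = (T.testBit i || decide (v = i)) := by
  rw [Nat.testBit_or, Nat.one_shiftLeft, Nat.testBit_two_pow]

section

variable (S : ℕ → Bool) (hq : ∀ q ∈ quadL, q.countP S = 2)

include hq

theorem not_crowded_pos {qs : List (List ℕ)} (hqs : ∀ q ∈ qs, q ∈ quadL) {T : ℕ}
    (hT : ∀ i, T.testBit i = true → S i = true) : crowded qs T = false := by
  simp only [crowded, List.any_eq_false, decide_eq_true_eq, not_lt]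
  intro q hmem
  exact le_trans (List.countP_mono_left fun i _ => hT i) (hq q (hqs q hmem)).le

theorem not_crowded_neg {qs : List (List ℕ)} (hqs : ∀ q ∈ qs, q ∈ quadL) {F : ℕ}
    (hF : ∀ i, F.testBit i = true → S i = false) : crowded qs F = false := by
  simp only [crowded, List.any_eq_false, decide_eq_true_eq, not_lt]
  intro q hmem
  refine le_trans (List.countP_mono_left (q := fun i => !S i) fun i _ h => by simp [hF i h]) ?_
  have h := List.length_eq_countP_add_countP S (l := q)
  rw [hq q (hqs q hmem), of_decide_eq_true (List.all_eq_true.mp order_ok.2 q (hqs q hmem))] at h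
  have e : q.countP (fun i => !S i) = q.countP (fun a => decide (¬ S a = true)) :=
    List.countP_congr fun i _ => by simp
  rw [e]
  omega

theorem search_sound : ∀ (r : List (ℕ × List (List ℕ))) (T F : ℕ), (∀ p ∈ r, ∀ q ∈ p.2, q ∈ quadL) →
    (∀ i, T.testBit i = true → S i = true) → (∀ i, F.testBit i = true → S i = false) →
    (∀ i, S i = true → T.testBit i = true ∨ ∃ p ∈ r, p.1 = i) → search r T F = true →
    ∃ s ∈ sols, ∀ i, S i = s.1.testBit i
  | [], T, _, _, hT, _, hcov, h => by
    simp only [search, List.any_eq_true, beq_iff_eq] at h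
    obtain ⟨s, hs, rfl⟩ := h
    refine ⟨s, hs, fun i => Bool.eq_iff_iff.mpr ⟨fun hi => ?_, hT i⟩⟩
    rcases hcov i hi with e | ⟨p, hp, -⟩
    exacts [e, absurd hp List.not_mem_nil]
  | (v, qs) :: r, T, F, hqs, hT, hF, hcov, h => by
    simp only [search, Bool.and_eq_true, Bool.or_eq_true] at h
    have hqs' : ∀ p ∈ r, ∀ q ∈ p.2, q ∈ quadL := fun p hp => hqs p (List.mem_cons_of_mem _ hp)
    cases hv : S v with
    | true =>
      have hT' : ∀ i, (T ||| (1 <<< v)).testBit i = true → S i = true := fun i hi => by
        rw [testBit_or_shift, Bool.or_eq_true, decide_eq_true_eq] at hi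
        rcases hi with hi | rfl
        exacts [hT i hi, hv]
      have h' := h.1.resolve_left (by rw [not_crowded_pos S hq (hqs (v, qs) List.mem_cons_self) hT']; simp)
      refine search_sound r _ F hqs' hT' hF (fun i hi => ?_) h'
      rw [testBit_or_shift, Bool.or_eq_true, decide_eq_true_eq]
      rcases hcov i hi with e | ⟨p, hp, e⟩
      · exact Or.inl (Or.inl e)
      · rcases List.mem_cons.mp hp with rfl | hp
        exacts [Or.inl (Or.inr e), Or.inr ⟨p, hp, e⟩]
    | false =>
      have hF' : ∀ i, (F ||| (1 <<< v)).testBit i = true → S i = false := fun i hi => by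
        rw [testBit_or_shift, Bool.or_eq_true, decide_eq_true_eq] at hi
        rcases hi with hi | rfl
        exacts [hF i hi, hv]
      have h' := h.2.resolve_left (by rw [not_crowded_neg S hq (hqs (v, qs) List.mem_cons_self) hF']; simp)
      refine search_sound r T _ hqs' hT hF' (fun i hi => ?_) h'
      rcases hcov i hi with e | ⟨p, hp, e⟩
      · exact Or.inl e
      · rcases List.mem_cons.mp hp with rfl | hp
        · change v = i at e
          subst e
          simp [hv] at hi
        · exact Or.inr ⟨p, hp, e⟩

/-- A set meeting each line in two points and containing the two base points is tabulated. -/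
theorem exists_sol (hsupp : ∀ i, S i = true → 1 ≤ i ∧ i ≤ 112) (h1 : S 1 = true) (hJ : S 38 = true) :
    ∃ s ∈ sols, ∀ i, S i = s.1.testBit i := by
  refine search_sound S hq vars _ 0 ?_ ?_ (fun i hi => by simp at hi) ?_ search_ok
  · intro p hp q hqm
    obtain ⟨v, -, rfl⟩ := List.mem_map.mp hp
    exact List.mem_of_mem_filter hqm
  · intro i hi
    rw [testBit_or_shift, Nat.one_shiftLeft, Nat.testBit_two_pow, Bool.or_eq_true, decide_eq_true_eq,
      decide_eq_true_eq] at hi
    rcases hi with rfl | rfl
    exacts [h1, hJ]
  · intro i hi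
    obtain ⟨a, b⟩ := hsupp i hi
    rw [testBit_or_shift, Nat.one_shiftLeft, Nat.testBit_two_pow, Bool.or_eq_true, decide_eq_true_eq,
      decide_eq_true_eq]
    rcases order_ok.1 ⟨i, by omega⟩ with e | e | e | e
    · change i = 0 at e; omega
    · exact Or.inl (Or.inl (show (1 : ℕ) = i from e.symm))
    · exact Or.inl (Or.inr (show (38 : ℕ) = i from e.symm))
    · exact Or.inr ⟨(i, _), List.mem_map.mpr ⟨i, e, rfl⟩, rfl⟩

end

end CfsgLib.McLRankThree
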