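import Cfsg.Agent.McLRankThree.Sym

/-!
# Coordinates for a rank three action on 275 points

The suborbit of length 112 becomes the standard one and the points of the other suborbit become hemisystems, so the
points carry the standard graph.
-/

set_option autoImplicit false
set_option maxRecDepth 100000
set_option maxHeartbeats 2000000
set_option linter.unusedSectionVars false
set_option linter.style.haveILetI false

namespace CfsgLib.McLRankThree

open MulAction

attribute [local irreducible] adjRows permBits tauBits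

variable {Ω : Type*} [Fintype Ω] [DecidableEq Ω] {G : Subgroup (Equiv.Perm Ω)} {a b c : Ω}

/-- The orbital of a pair. -/
def Rel (G : Subgroup (Equiv.Perm Ω)) (a b x y : Ω) : Prop := ∃ g ∈ G, g a = x ∧ g b = y

/-- The hypotheses. -/
structure Hyp (G : Subgroup (Equiv.Perm Ω)) (a b c : Ω) : Prop where
  card : Fintype.card Ω = 275
  trans : ∀ x y : Ω, ∃ g ∈ G, g x = y
  cardB : {y | Rel G a b a y}.ncard = 112
  cardC : {y | Rel G a c a y}.ncard = 162
  iso : Nonempty (M0 ≃* stabilizer G a)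

/-- A coordinatisation of the first suborbit. -/
structure IsLab (G : Subgroup (Equiv.Perm Ω)) (a b : Ω) (β : V → Ω) : Prop where
  mem : ∀ u, InB u → Rel G a b a (β u)
  inj : ∀ u v, InB u → InB v → β u = β v → u = v
  surj : ∀ y, Rel G a b a y → ∃ u, InB u ∧ β u = y
  fwd : ∀ m ∈ M0, ∃ g ∈ G, g a = a ∧ ∀ u, InB u → g (β u) = β (m u)
  bwd : ∀ g ∈ G, g a = a → ∃ m ∈ M0, ∀ u, InB u → g (β u) = β (m u)

theorem Rel.map {x y : Ω} {g : Equiv.Perm Ω} (hg : g ∈ G) (h : Rel G a b x y) : Rel G a b (g x) (g y) := by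
  obtain ⟨k, hk, rfl, rfl⟩ := h
  exact ⟨g * k, mul_mem hg hk, rfl, rfl⟩

theorem rel_map_iff {x y : Ω} {g : Equiv.Perm Ω} (hg : g ∈ G) : Rel G a b (g x) (g y) ↔ Rel G a b x y :=
  ⟨fun h => by simpa using h.map (inv_mem hg), Rel.map hg⟩

theorem ncard_image_perm (g : Equiv.Perm Ω) (s : Set Ω) : (g '' s).ncard = s.ncard :=
  Set.ncard_image_of_injective s g.injective

theorem image_nbhd {x : Ω} {g : Equiv.Perm Ω} (hg : g ∈ G) :
    g '' {y | Rel G a b x y} = {y | Rel G a b (g x) y} := by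
  ext y
  constructor
  · rintro ⟨z, hz, rfl⟩
    exact Rel.map hg hz
  · intro hy
    refine ⟨g⁻¹ y, ?_, by simp⟩
    simpa using Rel.map (inv_mem hg) (show Rel G a b (g x) y from hy)

theorem lines_ok : (quadL.all fun q => decide (q.Nodup) && decide (q.length = 4) &&
    q.all fun x => decide (1 ≤ x ∧ x ≤ 112) && q.all fun y => x == y || (adjRows.getD x 0).testBit y) = true := by
  decide +kernel

section

variable (h : Hyp G a b c)

include h

theorem ncard_nbhd (x : Ω) : {y | Rel G a b x y}.ncard = 112 := by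
  obtain ⟨g, hg, rfl⟩ := h.trans a x
  rw [← image_nbhd hg, ncard_image_perm, h.cardB]

theorem not_rel_self (x : Ω) : ¬ Rel G a b x x := by
  rintro ⟨g, hg, e1, e2⟩
  have hab : a = b := g.injective (e1.trans e2.symm)
  have hsub : {y | Rel G a b a y} ⊆ {a} := by
    rintro y ⟨k, hk, k1, k2⟩
    exact (k2.symm.trans ((congrArg k hab.symm).trans k1) : y = a)
  have := Set.ncard_le_ncard hsub
  rw [h.cardB, Set.ncard_singleton] at this
  omega

theorem not_C_self : ¬ Rel G a c a a := by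
  rintro ⟨g, hg, e1, e2⟩
  have hac : a = c := g.injective (e1.trans e2.symm)
  have hsub : {y | Rel G a c a y} ⊆ {a} := by
    rintro y ⟨k, hk, k1, k2⟩
    exact (k2.symm.trans ((congrArg k hac.symm).trans k1) : y = a)
  have := Set.ncard_le_ncard hsub
  rw [h.cardC, Set.ncard_singleton] at this
  omega

theorem disjoint_BC {y : Ω} (hB : Rel G a b a y) (hC : Rel G a c a y) : False := by
  obtain ⟨g, hg, g1, g2⟩ := hB
  obtain ⟨k, hk, k1, k2⟩ := hC
  have e : {z | Rel G a b a z} = {z | Rel G a c a z} := by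
    have ga : g⁻¹ a = a := Equiv.Perm.inv_eq_iff_eq.mpr g1.symm
    have ka : k⁻¹ a = a := Equiv.Perm.inv_eq_iff_eq.mpr k1.symm
    ext z
    constructor
    · rintro ⟨m, hm, m1, rfl⟩
      refine ⟨m * (g⁻¹ * k), mul_mem hm (mul_mem (inv_mem hg) hk), ?_, ?_⟩
      · rw [Equiv.Perm.mul_apply, Equiv.Perm.mul_apply, k1, ga, m1]
      · rw [Equiv.Perm.mul_apply, Equiv.Perm.mul_apply, k2, ← g2]; simp
    · rintro ⟨m, hm, m1, rfl⟩
      refine ⟨m * (k⁻¹ * g), mul_mem hm (mul_mem (inv_mem hk) hg), ?_, ?_⟩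
      · rw [Equiv.Perm.mul_apply, Equiv.Perm.mul_apply, g1, ka, m1]
      · rw [Equiv.Perm.mul_apply, Equiv.Perm.mul_apply, g2, ← k2]; simp
  have := h.cardB
  rw [e, h.cardC] at this
  omega

theorem cover (y : Ω) : y = a ∨ Rel G a b a y ∨ Rel G a c a y := by
  have hd : Disjoint {y | Rel G a b a y} {y | Rel G a c a y} :=
    Set.disjoint_left.mpr fun z h1 h2 => disjoint_BC h h1 h2
  have hu : insert a ({y | Rel G a b a y} ∪ {y | Rel G a c a y}) = Set.univ := by
    refine Set.eq_of_subset_of_ncard_le (Set.subset_univ _) ?_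
    rw [Set.ncard_univ, Nat.card_eq_fintype_card, h.card, Set.ncard_insert_of_notMem ?_,
      Set.ncard_union_eq hd, h.cardB, h.cardC]
    rintro (h1 | h1)
    exacts [not_rel_self h a h1, not_C_self h h1]
  have hy : y ∈ insert a ({y | Rel G a b a y} ∪ {y | Rel G a c a y}) := hu ▸ Set.mem_univ y
  exact hy

theorem split_ncard (X : Set Ω) :
    X.ncard = (X ∩ {a}).ncard + (X ∩ {y | Rel G a b a y}).ncard + (X ∩ {y | Rel G a c a y}).ncard := by
  rw [← Set.ncard_union_eq, ← Set.ncard_union_eq]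
  · congr 1
    ext y
    have := cover h y
    simp only [Set.mem_union, Set.mem_inter_iff, Set.mem_singleton_iff, Set.mem_ofPred_eq]
    tauto
  · refine Set.disjoint_left.mpr ?_
    rintro z (⟨-, rfl⟩ | ⟨-, hz⟩) ⟨-, hz'⟩
    exacts [not_C_self h hz', disjoint_BC h hz hz']
  · refine Set.disjoint_left.mpr ?_
    rintro z ⟨-, rfl⟩ ⟨-, hz'⟩
    exact not_rel_self h _ hz'

theorem inter_singleton_one {X : Set Ω} {x : Ω} (hx : x ∈ X) : (X ∩ {x}).ncard = 1 := by
  rw [Set.inter_eq_right.mpr (Set.singleton_subset_iff.mpr hx), Set.ncard_singleton]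

theorem rel_symm {x y : Ω} (hxy : Rel G a b x y) : Rel G a b y x := by
  classical
  let N' : Set Ω := {y | Rel G a b y a}
  have hN : N'.ncard = 112 := by
    have hin : ∀ z : Ω, (Finset.univ.filter fun x => Rel G a b x z).card = N'.ncard := by
      intro z
      obtain ⟨g, hg, rfl⟩ := h.trans a z
      rw [← Set.ncard_coe_finset, ← ncard_image_perm g N']
      congr 1
      ext w
      simp only [Finset.coe_filter, Finset.mem_univ, true_and, Set.mem_ofPred_eq, Set.mem_image, N']
      constructor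
      · intro hw
        exact ⟨g⁻¹ w, by simpa using hw.map (inv_mem hg), by simp⟩
      · rintro ⟨v, hv, rfl⟩
        exact Rel.map hg hv
    have hout : ∀ z : Ω, (Finset.univ.filter fun y => Rel G a b z y).card = 112 := fun z => by
      rw [← Set.ncard_coe_finset, ← ncard_nbhd h z]
      congr 1
      simp
    have := Finset.sum_card_bipartiteAbove_eq_sum_card_bipartiteBelow (r := Rel G a b) (s := (Finset.univ : Finset Ω))
      (t := Finset.univ)
    simp only [Finset.bipartiteAbove, Finset.bipartiteBelow, hin, hout, Finset.sum_const, Finset.card_univ, h.card,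
      smul_eq_mul] at this
    omega
  have heq : N' = {y | Rel G a b a y} := by
    by_cases hbN : Rel G a b b a
    · refine (Set.eq_of_subset_of_ncard_le ?_ (le_of_eq (by rw [hN, h.cardB]))).symm
      rintro z ⟨g, hg, g1, rfl⟩
      have := hbN.map hg
      rwa [g1] at this
    · exfalso
      have hsub : ∀ z ∈ N', ¬ Rel G a b a z := by
        rintro z hz ⟨g, hg, g1, rfl⟩
        have := Rel.map (inv_mem hg) (show Rel G a b (g b) a from hz)
        rw [show g⁻¹ a = a from Equiv.Perm.inv_eq_iff_eq.mpr g1.symm] at this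
        exact hbN (by simpa using this)
      by_cases hcN : ∃ z ∈ N', Rel G a c a z
      · obtain ⟨z, hz, k, hk, k1, rfl⟩ := hcN
        have hall : {y | Rel G a c a y} ⊆ N' := by
          rintro w ⟨m, hm, m1, rfl⟩
          have := Rel.map (mul_mem hm (inv_mem hk)) (show Rel G a b (k c) a from hz)
          rw [Equiv.Perm.mul_apply, Equiv.Perm.mul_apply, show k⁻¹ a = a from Equiv.Perm.inv_eq_iff_eq.mpr k1.symm,
            m1] at this
          show Rel G a b (m c) a
          simpa using this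
        have := Set.ncard_le_ncard hall
        rw [hN, h.cardC] at this
        omega
      · have hsub' : N' ⊆ {a} := fun z hz => by
          rcases cover h z with e | e | e
          exacts [e, absurd e (hsub z hz), absurd ⟨z, hz, e⟩ hcN]
        have := Set.ncard_le_ncard hsub'
        rw [hN, Set.ncard_singleton] at this
        omega
  obtain ⟨g, hg, rfl, rfl⟩ := hxy
  have hb : b ∈ N' := heq ▸ (⟨1, one_mem G, rfl, rfl⟩ : Rel G a b a b)
  exact Rel.map hg hb

theorem exists_lab : ∃ β : V → Ω, IsLab G a b β := by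
  classical
  obtain ⟨ψ⟩ := h.iso
  let P : M0 → Equiv.Perm Ω := fun m => ((ψ m : stabilizer G a) : G)
  have hPG : ∀ m, P m ∈ G := fun m => ((ψ m : stabilizer G a) : G).2
  have hPa : ∀ m, P m a = a := fun m => (ψ m).2
  have hPmul : ∀ m n, P (m * n) = P m * P n := fun m n => by simp only [P, map_mul, Subgroup.coe_mul]
  have horb : orbit (stabilizer G a) b = {y | Rel G a b a y} := by
    ext y
    constructor
    · rintro ⟨⟨⟨g, hg⟩, hga⟩, rfl⟩
      exact ⟨g, hg, hga, rfl⟩
    · rintro ⟨g, hg, hga, rfl⟩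
      exact ⟨⟨⟨g, hg⟩, hga⟩, rfl⟩
  let H : Subgroup M0 := (stabilizer (stabilizer G a) b).comap ψ.toMonoidHom
  have hH : Nat.card H = 29160 := by
    have hi : H.index = 112 := by
      rw [Subgroup.index_comap_of_surjective _ ψ.surjective, index_stabilizer, horb, h.cardB]
    have := H.card_mul_index
    rw [hi, card_M0] at this
    omega
  obtain ⟨u0, hu0, hHeq⟩ := index_112 H hH
  have hex : ∀ u, InB u → ∃ m : M0, (m : Equiv.Perm V) u0 = u := by
    intro u hu
    obtain ⟨m, hm, e⟩ := trans_B hu0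
    obtain ⟨n, hn, e'⟩ := trans_B hu
    exact ⟨⟨n * m⁻¹, mul_mem hn (inv_mem hm)⟩, by
      show n (m⁻¹ u0) = u
      rw [Equiv.Perm.inv_eq_iff_eq.mpr e.symm, e']⟩
  let β : V → Ω := fun u => if hu : InB u then P (hex u hu).choose b else a
  have hβ : ∀ m : M0, β ((m : Equiv.Perm V) u0) = P m b := by
    intro m
    have hu : InB ((m : Equiv.Perm V) u0) := inB_M0 m.2 hu0
    simp only [β, dif_pos hu]
    have hs := (hex _ hu).choose_spec
    set n := (hex _ hu).choose
    have hmem : m⁻¹ * n ∈ H := by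
      rw [hHeq, mem_stabilizer_iff]
      show (m : Equiv.Perm V)⁻¹ ((n : Equiv.Perm V) u0) = u0
      rw [hs]
      simp
    have hfix : P (m⁻¹ * n) b = b := hmem
    have := congrArg (P m) hfix
    rwa [← Equiv.Perm.mul_apply, ← hPmul, mul_inv_cancel_left] at this
  refine ⟨β, ⟨?_, ?_, ?_, ?_, ?_⟩⟩
  · intro u hu
    obtain ⟨m, rfl⟩ := hex u hu
    rw [hβ]
    exact ⟨P m, hPG m, hPa m, rfl⟩
  · intro u v hu hv e
    obtain ⟨m, rfl⟩ := hex u hu
    obtain ⟨n, rfl⟩ := hex v hv
    rw [hβ, hβ] at e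
    have hmem : m⁻¹ * n ∈ H := by
      show P (m⁻¹ * n) b = b
      rw [hPmul, Equiv.Perm.mul_apply, ← e, ← Equiv.Perm.mul_apply, ← hPmul, inv_mul_cancel]
      simp [P]
    rw [hHeq, mem_stabilizer_iff] at hmem
    have h' : (m : Equiv.Perm V)⁻¹ ((n : Equiv.Perm V) u0) = u0 := hmem
    exact (Equiv.Perm.inv_eq_iff_eq.mp h').symm
  · rintro y ⟨g, hg, ga, rfl⟩
    obtain ⟨m, hm⟩ := ψ.surjective ⟨⟨g, hg⟩, ga⟩
    refine ⟨(m : Equiv.Perm V) u0, inB_M0 m.2 hu0, ?_⟩
    rw [hβ]
    simp only [P, hm]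
  · intro m hm
    refine ⟨P ⟨m, hm⟩, hPG _, hPa _, fun u hu => ?_⟩
    obtain ⟨n, rfl⟩ := hex u hu
    rw [hβ, ← Equiv.Perm.mul_apply, ← hPmul, ← hβ]
    rfl
  · intro g hg ga
    obtain ⟨m, hm⟩ := ψ.surjective ⟨⟨g, hg⟩, ga⟩
    refine ⟨m, m.2, fun u hu => ?_⟩
    obtain ⟨n, rfl⟩ := hex u hu
    have hgP : g = P m := by simp only [P, hm]
    rw [hβ, hgP, ← Equiv.Perm.mul_apply, ← hPmul, ← hβ]
    rfl

section

variable {β : V → Ω} (L : IsLab G a b β)

include L

theorem image_lab_inter (m : Equiv.Perm V) {g : Equiv.Perm Ω} (hm : m ∈ M0) (hg : ∀ u, InB u → g (β u) = β (m u))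
    (P : V → Prop) : g '' (β '' {u | InB u ∧ P u}) = β '' {u | InB u ∧ P (m⁻¹ u)} := by
  ext y
  constructor
  · rintro ⟨_, ⟨u, ⟨hu, hP⟩, rfl⟩, rfl⟩
    exact ⟨m u, ⟨inB_M0 hm hu, by simpa using hP⟩, (hg u hu).symm⟩
  · rintro ⟨u, ⟨hu, hP⟩, rfl⟩
    have hu' : InB (m⁻¹ u) := inB_M0 (inv_mem hm) hu
    exact ⟨β (m⁻¹ u), ⟨_, ⟨hu', hP⟩, rfl⟩, by rw [hg _ hu']; simp⟩

theorem ncard_lab (P : V → Prop) : (β '' {u | InB u ∧ P u}).ncard = {u | InB u ∧ P u}.ncard :=
  Set.InjOn.ncard_image fun _ hu _ hv e => L.inj _ _ hu.1 hv.1 e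

theorem inter_B (P : Ω → Prop) :
    {y | P y} ∩ {y | Rel G a b a y} = β '' {u | InB u ∧ P (β u)} := by
  ext y
  constructor
  · rintro ⟨hP, hy⟩
    obtain ⟨u, hu, rfl⟩ := L.surj y hy
    exact ⟨u, ⟨hu, hP⟩, rfl⟩
  · rintro ⟨u, ⟨hu, hP⟩, rfl⟩
    exact ⟨hP, L.mem u hu⟩

/-- The graph on the first suborbit is the standard one. -/
theorem rel_one {v : V} (hv : InB v) : Rel G a b (β 1) (β v) ↔ Adj 1 v = true := by
  classical
  set S : Set V := {v | InB v ∧ Rel G a b (β 1) (β v)} with hS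
  have hinv : ∀ m ∈ M0, m 1 = 1 → ∀ v ∈ S, m v ∈ S := by
    rintro m hm h1 v ⟨hv, hR⟩
    obtain ⟨g, hg, -, hgβ⟩ := L.fwd m hm
    have := hR.map hg
    rw [hgβ 1 inB_one, hgβ v hv, h1] at this
    exact ⟨inB_M0 hm hv, this⟩
  have hne1 : (1 : V) ∉ S := fun h1 => not_rel_self h _ h1.2
  have hnear : ∀ v w, InB v → Adj 1 v = true → InB w → Adj 1 w = true → v ∈ S → w ∈ S := by
    intro v w a1 a2 b1 b2 hvS
    obtain ⟨m, hm, e1, rfl⟩ := trans_near a1 a2 b1 b2
    exact hinv m hm e1 v hvS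
  have hfar : ∀ v w, InB v → v ≠ 1 → Adj 1 v = false → InB w → w ≠ 1 → Adj 1 w = false → v ∈ S → w ∈ S := by
    intro v w a1 a0 a2 b1 b0 b2 hvS
    obtain ⟨m, hm, e1, rfl⟩ := trans_far a1 a0 a2 b1 b0 b2
    exact hinv m hm e1 v hvS
  set N : Set V := {v | InB v ∧ Adj 1 v = true} with hN
  set F : Set V := {v | InB v ∧ v ≠ 1 ∧ Adj 1 v = false} with hF
  have cN : N.ncard = 30 := by
    rw [← near30_ok.2.2.2.2.1, ← Set.ncard_coe_finset]; congr 1; ext; simp [hN]
  have cF : F.ncard = 81 := by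
    rw [← near30_ok.2.2.2.2.2.1, ← Set.ncard_coe_finset]; congr 1; ext; simp [hF]
  have hSN : S ∩ N = ∅ ∨ S ∩ N = N := by
    rcases Set.eq_empty_or_nonempty (S ∩ N) with e | ⟨w, hw, hw'⟩
    · exact Or.inl e
    · exact Or.inr (Set.inter_eq_right.mpr fun v hv => hnear w v hw'.1 hw'.2 hv.1 hv.2 hw)
  have hSF : S ∩ F = ∅ ∨ S ∩ F = F := by
    rcases Set.eq_empty_or_nonempty (S ∩ F) with e | ⟨w, hw, hw'⟩
    · exact Or.inl e
    · exact Or.inr (Set.inter_eq_right.mpr fun v hv => hfar w v hw'.1 hw'.2.1 hw'.2.2 hv.1 hv.2.1 hv.2.2 hw)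
  have hSd : S.ncard = (S ∩ N).ncard + (S ∩ F).ncard := by
    rw [← Set.ncard_union_eq]
    · congr 1
      ext v
      refine ⟨fun hvS => ?_, fun hh => hh.elim (fun h => h.1) fun h => h.1⟩
      cases he : Adj 1 v
      · exact Or.inr ⟨hvS, hvS.1, fun e => hne1 (e ▸ hvS), he⟩
      · exact Or.inl ⟨hvS, hvS.1, he⟩
    · refine Set.disjoint_left.mpr fun v hv hv' => ?_
      simp [hv.2.2] at hv'
      simp [hF, hv.2.2] at hv'
  -- degree on the first suborbit
  have hdeg : ∀ y, Rel G a b a y → ({z | Rel G a b y z} ∩ {z | Rel G a b a z}).ncard = S.ncard := by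
    intro y hy
    obtain ⟨u, hu, rfl⟩ := L.surj y hy
    obtain ⟨m, hm, rfl⟩ := trans_B hu
    obtain ⟨g, hg, ga, hgβ⟩ := L.fwd m hm
    rw [← hgβ 1 inB_one, ← image_nbhd hg]
    nth_rw 1 [← show g '' {z | Rel G a b a z} = {z | Rel G a b a z} from (image_nbhd hg).trans (by rw [ga])]
    rw [← Set.image_inter g.injective, ncard_image_perm, inter_B h L, ncard_lab h L]
  have hBC : ∀ y, Rel G a b a y → ({z | Rel G a b y z} ∩ {z | Rel G a c a z}).ncard + S.ncard = 111 := by
    intro y hy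
    have := split_ncard h {z | Rel G a b y z}
    rw [ncard_nbhd h, hdeg y hy,
      show ({z | Rel G a b y z} ∩ {a}).ncard = 1 by
        exact inter_singleton_one h (show a ∈ {z | Rel G a b y z} from rel_symm h hy)] at this
    omega
  -- counting edges between the suborbits
  set μ := ({z | Rel G a b c z} ∩ {z | Rel G a b a z}).ncard with hμ
  have hCB : ∀ z, Rel G a c a z → ({w | Rel G a b z w} ∩ {w | Rel G a b a w}).ncard = μ := by
    rintro z ⟨g, hg, ga, rfl⟩
    rw [hμ, ← ncard_image_perm g ({z | Rel G a b c z} ∩ {z | Rel G a b a z}), Set.image_inter g.injective,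
      image_nbhd hg, image_nbhd hg, ga]
  have hcount : 112 * (111 - S.ncard) = 162 * μ := by
    let Bf := Finset.univ.filter fun y => Rel G a b a y
    let Cf := Finset.univ.filter fun y => Rel G a c a y
    have hb : Bf.card = 112 := by rw [← h.cardB, ← Set.ncard_coe_finset]; simp [Bf]
    have hc : Cf.card = 162 := by rw [← h.cardC, ← Set.ncard_coe_finset]; simp [Cf]
    have e1 : ∀ y ∈ Bf, (Cf.bipartiteAbove (Rel G a b) y).card = 111 - S.ncard := by
      intro y hy
      have := hBC y (by simpa [Bf] using hy)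
      rw [← Set.ncard_coe_finset]
      rw [show (↑(Cf.bipartiteAbove (Rel G a b) y) : Set Ω) = {z | Rel G a b y z} ∩ {z | Rel G a c a z} by
        ext; simp [Finset.bipartiteAbove, Cf, and_comm]]
      omega
    have e2 : ∀ z ∈ Cf, (Bf.bipartiteBelow (Rel G a b) z).card = μ := by
      intro z hz
      rw [← Set.ncard_coe_finset, ← hCB z (by simpa [Cf] using hz)]
      congr 1
      ext w
      simp only [Finset.bipartiteBelow, Bf, Finset.coe_filter, Finset.mem_filter, Finset.mem_univ, true_and,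
        Set.mem_ofPred_eq, Set.mem_inter_iff]
      exact ⟨fun h1 => ⟨rel_symm h h1.2, h1.1⟩, fun h1 => ⟨h1.2, rel_symm h h1.1⟩⟩
    have := Finset.sum_card_bipartiteAbove_eq_sum_card_bipartiteBelow (r := Rel G a b) (s := Bf) (t := Cf)
    rw [Finset.sum_congr rfl e1, Finset.sum_congr rfl e2, Finset.sum_const, Finset.sum_const, hb, hc,
      smul_eq_mul, smul_eq_mul] at this
    exact this
  have hS30 : S.ncard = 30 := by
    by_contra hne
    have h111 : S.ncard = 111 := by
      rcases hSN with e1 | e1 <;> rcases hSF with e2 | e2 <;>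
        rw [e1, e2] at hSd <;> simp only [Set.ncard_empty, cN, cF] at hSd <;> rw [hSd] at hcount hne ⊢ <;> omega
    -- the closed neighbourhoods would be blocks of 113 points
    let cl : Ω → Set Ω := fun x => insert x {z | Rel G a b x z}
    have hclcard : ∀ x, (cl x).ncard = 113 := fun x => by
      show (insert x {z | Rel G a b x z}).ncard = 113
      rw [Set.ncard_insert_of_notMem (show x ∉ {z | Rel G a b x z} from not_rel_self h x), ncard_nbhd h]
    have himg : ∀ g ∈ G, ∀ x, g '' cl x = cl (g x) := fun g hg x => by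
      simp only [cl, Set.image_insert_eq, image_nbhd hg]
    have hcla : ∀ z ∈ cl a, cl z = cl a := by
      rintro z (rfl | hz)
      · rfl
      refine Set.eq_of_subset_of_ncard_le ?_ (le_of_eq (by rw [hclcard, hclcard]))
      rintro w (rfl | hw)
      · exact Or.inr hz
      rcases cover h w with e | e | e
      · exact Or.inl e
      · exact Or.inr e
      · exfalso
        have h0 := hBC z hz
        have hp : 0 < ({w | Rel G a b z w} ∩ {w | Rel G a c a w}).ncard :=
          (Set.ncard_pos (Set.toFinite _)).mpr ⟨w, hw, e⟩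
        omega
    have hcl : ∀ x, ∀ z ∈ cl x, cl z = cl x := by
      intro x z hz
      obtain ⟨g, hg, rfl⟩ := h.trans a x
      rw [← himg g hg a] at hz
      obtain ⟨w, hw, rfl⟩ := hz
      rw [← himg g hg, ← himg g hg, hcla w hw]
    have := Finset.card_eq_sum_card_image cl (Finset.univ : Finset Ω)
    rw [Finset.card_univ, h.card, Finset.sum_const_nat (m := 113)] at this
    · omega
    · intro X hX
      obtain ⟨x, -, rfl⟩ := Finset.mem_image.mp hX
      rw [← hclcard x, ← Set.ncard_coe_finset]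
      congr 1
      ext z
      simp only [Finset.coe_filter, Finset.mem_univ, true_and, Set.mem_ofPred_eq]
      exact ⟨fun e => e ▸ Set.mem_insert z _, hcl x z⟩
  have hSeq : S = N := by
    rcases hSN with e1 | e1 <;> rcases hSF with e2 | e2 <;>
      rw [e1, e2] at hSd <;> simp only [Set.ncard_empty, cN, cF] at hSd
    · omega
    · omega
    · exact (Set.eq_of_subset_of_ncard_le (e1 ▸ Set.inter_subset_left) (by omega)).symm
    · omega
  have := Set.ext_iff.mp hSeq v
  simpa [hS, hN, hv] using this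

theorem rel_lab {u v : V} (hu : InB u) (hv : InB v) : Rel G a b (β u) (β v) ↔ Adj u v = true := by
  obtain ⟨m, hm, rfl⟩ := trans_B hu
  obtain ⟨g, hg, -, hgβ⟩ := L.fwd m hm
  obtain ⟨v', hv', rfl⟩ : ∃ v', InB v' ∧ m v' = v := ⟨m⁻¹ v, inB_M0 (inv_mem hm) hv, by simp⟩
  rw [← hgβ 1 inB_one, ← hgβ v' hv', rel_map_iff hg, rel_one h L hv', adj_M0 hm]

theorem inter_B_ncard {u : V} (hu : InB u) :
    ({z | Rel G a b (β u) z} ∩ {z | Rel G a b a z}).ncard = 30 := by
  rw [inter_B h L, ncard_lab h L]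
  obtain ⟨m, hm, rfl⟩ := trans_B hu
  have e : {v | InB v ∧ Rel G a b (β (m 1)) (β v)} = m '' {v | InB v ∧ Adj 1 v = true} := by
    ext v
    constructor
    · rintro ⟨hv, hR⟩
      rw [rel_lab h L (inB_M0 hm inB_one) hv] at hR
      refine ⟨m⁻¹ v, ⟨inB_M0 (inv_mem hm) hv, ?_⟩, by simp⟩
      rw [← adj_M0 hm]; simpa using hR
    · rintro ⟨w, ⟨hw, hA⟩, rfl⟩
      exact ⟨inB_M0 hm hw, (rel_lab h L (inB_M0 hm inB_one) (inB_M0 hm hw)).mpr (by rw [adj_M0 hm]; exact hA)⟩
  rw [e, Set.ncard_image_of_injective _ m.injective, ← near30_ok.2.2.2.2.1, ← Set.ncard_coe_finset]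
  congr 1
  ext; simp

theorem inter_C_ncard {u : V} (hu : InB u) :
    ({z | Rel G a b (β u) z} ∩ {z | Rel G a c a z}).ncard = 81 := by
  have := split_ncard h {z | Rel G a b (β u) z}
  rw [ncard_nbhd h, inter_B_ncard h L hu,
    show ({z | Rel G a b (β u) z} ∩ {a}).ncard = 1 by
      exact inter_singleton_one h (show a ∈ {z | Rel G a b (β u) z} from rel_symm h (L.mem u hu))] at this
  omega

theorem common_C {u w : V} (hu : InB u) (hw : InB w) (hA : Adj u w = true) :
    ({z | Rel G a b (β u) z ∧ Rel G a b (β w) z} ∩ {z | Rel G a c a z}).ncard = 27 := by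
  have hR : Rel G a b (β u) (β w) := (rel_lab h L hu hw).mpr hA
  have hlam : {z | Rel G a b (β u) z ∧ Rel G a b (β w) z}.ncard = 30 := by
    obtain ⟨g, hg, g1, g2⟩ := hR
    rw [← g1, ← g2]
    have h30 : ({z | Rel G a b b z} ∩ {z | Rel G a b a z}).ncard = 30 := by
      obtain ⟨u0, hu0, e⟩ := L.surj b ⟨1, one_mem G, rfl, rfl⟩
      have := inter_B_ncard h L hu0
      rwa [e] at this
    rw [← h30, ← ncard_image_perm g ({z | Rel G a b b z} ∩ {z | Rel G a b a z}), Set.image_inter g.injective,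
      image_nbhd hg, image_nbhd hg]
    congr 1
    ext z
    exact and_comm
  have := split_ncard h {z | Rel G a b (β u) z ∧ Rel G a b (β w) z}
  rw [hlam, show ({z | Rel G a b (β u) z ∧ Rel G a b (β w) z} ∩ {a}).ncard = 1 by
      exact inter_singleton_one h (show a ∈ {z | Rel G a b (β u) z ∧ Rel G a b (β w) z} from
        ⟨rel_symm h (L.mem u hu), rel_symm h (L.mem w hw)⟩)] at this
  have hB : ({z | Rel G a b (β u) z ∧ Rel G a b (β w) z} ∩ {z | Rel G a b a z}).ncard = 2 := by
    rw [inter_B h L, ncard_lab h L, ← common_two hu hw hA]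
    congr 1
    ext z
    simp only [Set.mem_ofPred_eq]
    exact and_congr_right fun hz => by rw [rel_lab h L hu hz, rel_lab h L hw hz]
  omega

theorem twist {σ : Equiv.Perm V} (hσ : Normal σ) : IsLab G a b (fun u => β (σ.symm u)) := by
  have hinB : ∀ u, InB u → InB (σ.symm u) := fun u hu => (hσ.inB _).mp (by simpa using hu)
  refine ⟨fun u hu => L.mem _ (hinB u hu), fun u v hu hv e => σ.symm.injective (L.inj _ _ (hinB u hu) (hinB v hv) e),
    fun y hy => ?_, fun m hm => ?_, fun g hg ga => ?_⟩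
  · obtain ⟨u, hu, rfl⟩ := L.surj y hy
    exact ⟨σ u, (hσ.inB u).mpr hu, by simp⟩
  · obtain ⟨m', hm', e⟩ := hσ.pull m hm
    obtain ⟨g, hg, ga, hgβ⟩ := L.fwd m' hm'
    refine ⟨g, hg, ga, fun u hu => ?_⟩
    show g (β (σ.symm u)) = β (σ.symm (m u))
    rw [hgβ _ (hinB u hu)]
    congr 1
    rw [Equiv.eq_symm_apply, e _ (hinB u hu), Equiv.apply_symm_apply]
  · obtain ⟨m, hm, hgβ⟩ := L.bwd g hg ga
    obtain ⟨m', hm', e⟩ := hσ.push m hm
    refine ⟨m', hm', fun u hu => ?_⟩
    show g (β (σ.symm u)) = β (σ.symm (m' u))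
    rw [hgβ _ (hinB u hu)]
    congr 1
    rw [Equiv.eq_symm_apply, e _ (hinB u hu), Equiv.apply_symm_apply]

/-- The points of the second suborbit meet each line twice. -/
theorem hemisystem {z : Ω} (hz : Rel G a c a z) {q : List ℕ} (hq : q ∈ quadL) :
    q.countP (fun i => @decide ((1 ≤ i ∧ i ≤ 112) ∧ Rel G a b (β (Fin.ofNat 275 i)) z) (Classical.dec _)) = 2 := by
  classical
  have hl := List.all_eq_true.mp lines_ok q hq
  simp only [Bool.and_eq_true, Bool.or_eq_true, decide_eq_true_eq, List.all_eq_true, beq_iff_eq] at hl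
  obtain ⟨⟨hnd, hlen⟩, hmem⟩ := hl
  let Q : Finset ℕ := q.toFinset
  have hQ : Q.card = 4 := by rw [List.toFinset_card_of_nodup hnd, hlen]
  let Cf := Finset.univ.filter fun y => Rel G a c a y
  let I : Ω → ℕ → ℕ := fun z i => if Rel G a b (β (Fin.ofNat 275 i)) z then 1 else 0
  let f : Ω → ℕ := fun z => ∑ i ∈ Q, I z i
  have hval : ∀ i ∈ Q, InB (Fin.ofNat 275 i : V) ∧ (Fin.ofNat 275 i : V).val = i := by
    intro i hi
    obtain ⟨h1, h2⟩ := (hmem i (List.mem_toFinset.mp hi)).1
    have e : (Fin.ofNat 275 i : V).val = i := by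
      simp only [Fin.val_ofNat]; exact Nat.mod_eq_of_lt (by omega)
    exact ⟨by unfold InB; omega, e⟩
  have h1 : ∀ i ∈ Q, ∑ z ∈ Cf, I z i = 81 := by
    intro i hi
    rw [← inter_C_ncard h L (hval i hi).1, Finset.sum_boole]
    simp only [Nat.cast_id]
    rw [← Set.ncard_coe_finset]
    congr 1
    ext y
    simp [Cf, and_comm]
  have h2 : ∀ i ∈ Q, ∀ j ∈ Q, ∑ z ∈ Cf, I z i * I z j = if i = j then 81 else 27 := by
    intro i hi j hj
    split_ifs with e
    · subst e
      rw [← h1 i hi]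
      exact Finset.sum_congr rfl fun z _ => by simp only [I]; split_ifs <;> rfl
    · have hA : Adj (Fin.ofNat 275 i) (Fin.ofNat 275 j) = true := by
        have := (hmem i (List.mem_toFinset.mp hi)).2 j (List.mem_toFinset.mp hj)
        rw [Adj, (hval i hi).2, (hval j hj).2]
        exact this.resolve_left e
      rw [← common_C h L (hval i hi).1 (hval j hj).1 hA]
      have e' : ∀ z, I z i * I z j = if Rel G a b (β (Fin.ofNat 275 i)) z ∧ Rel G a b (β (Fin.ofNat 275 j)) z
          then 1 else 0 := fun z => by simp only [I]; split_ifs <;> simp_all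
      simp only [e', Finset.sum_boole, Nat.cast_id]
      rw [← Set.ncard_coe_finset]
      congr 1
      ext y
      simp [Cf, and_comm, and_left_comm]
  have hCc : Cf.card = 162 := by rw [← h.cardC, ← Set.ncard_coe_finset]; simp [Cf]
  have s1 : ∑ z ∈ Cf, 4 * f z = 1296 := by
    rw [← Finset.mul_sum]
    simp only [f]
    rw [Finset.sum_comm, Finset.sum_congr rfl h1, Finset.sum_const, hQ]
    rfl
  have s2 : ∑ z ∈ Cf, (f z * f z + 4) = 1296 := by
    rw [Finset.sum_add_distrib, Finset.sum_const, hCc]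
    simp only [f, Finset.sum_mul_sum]
    rw [Finset.sum_comm]
    have : ∀ i ∈ Q, ∑ z ∈ Cf, ∑ j ∈ Q, I z i * I z j = 162 := by
      intro i hi
      rw [Finset.sum_comm, Finset.sum_congr rfl (h2 i hi), ← Finset.add_sum_erase _ _ hi, if_pos rfl,
        Finset.sum_congr rfl (fun j hj => if_neg (Ne.symm (Finset.ne_of_mem_erase hj))), Finset.sum_const,
        Finset.card_erase_of_mem hi, hQ]
      rfl
    rw [Finset.sum_congr rfl this, Finset.sum_const, hQ]
    rfl
  have hle : ∀ z ∈ Cf, 4 * f z ≤ f z * f z + 4 := fun z _ => by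
    have := four_mul_le_sq_add (f z) 2
    nlinarith
  have hzC : z ∈ Cf := by simpa [Cf] using hz
  have heq := (Finset.sum_eq_sum_iff_of_le hle).mp (s1.trans s2.symm) z hzC
  have hf : f z = 2 := by
    rcases lt_trichotomy (f z) 2 with hh | hh | hh
    · interval_cases hfz : f z <;> simp at heq
    · exact hh
    · nlinarith
  rw [← hf]
  simp only [f, I, Q, Finset.sum_boole, Nat.cast_id, List.countP_eq_length_filter]
  rw [← List.toFinset_card_of_nodup (hnd.filter _), List.toFinset_filter]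
  congr 1
  refine Finset.filter_congr fun i hi => ?_
  have := (hmem i (List.mem_toFinset.mp hi)).1
  simp [this]

end

/-- The points are the standard points. -/
theorem exists_coords : ∃ π : V ≃ Ω, π 0 = a ∧ (∀ i j, Rel G a b (π i) (π j) ↔ Adj i j = true) ∧
    ∀ g ∈ G, g a = a → ∃ m ∈ M0, ∀ v, g (π v) = π (m v) := by
  classical
  obtain ⟨β₀, L₀⟩ := exists_lab h
  obtain ⟨z0, ⟨hz1, hz38⟩, hz0⟩ : ({z | Rel G a b (β₀ 1) z ∧ Rel G a b (β₀ 38) z} ∩
      {z | Rel G a c a z}).Nonempty := by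
    refine Set.nonempty_of_ncard_ne_zero ?_
    rw [common_C h L₀ inB_one (by decide) near30_ok.2.2.1]
    norm_num
  let S : ℕ → Bool := fun i => decide ((1 ≤ i ∧ i ≤ 112) ∧ Rel G a b (β₀ (Fin.ofNat 275 i)) z0)
  obtain ⟨s, hs, hsS⟩ := exists_sol S (fun q hq => by
      rw [← hemisystem h L₀ hz0 hq]
      exact List.countP_congr fun i _ => by simp [S])
    (fun i hi => by simp only [S, decide_eq_true_eq] at hi; exact hi.1)
    (by simp only [S, decide_eq_true_eq]; exact ⟨⟨le_rfl, by norm_num⟩, hz1⟩)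
    (by simp only [S, decide_eq_true_eq]; exact ⟨⟨by norm_num, by norm_num⟩, hz38⟩)
  obtain ⟨σ, hσ, hσs⟩ := exists_sym hs
  have L := twist h L₀ hσ
  set β : V → Ω := fun u => β₀ (σ.symm u) with hβdef
  have hpat0 : ∀ u, InB u → (Rel G a b z0 (β u) ↔ Adj 113 u = true) := by
    intro u hu
    have hu' : InB (σ.symm u) := (hσ.inB _).mp (by simpa using hu)
    have e := hsS (σ.symm u).val
    rw [hσs _ hu', Equiv.apply_symm_apply] at e
    rw [← e]
    simp only [S, decide_eq_true_eq, β]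
    rw [show (Fin.ofNat 275 (σ.symm u).val : V) = σ.symm u from Fin.ext (Nat.mod_eq_of_lt (σ.symm u).isLt)]
    exact ⟨fun hr => ⟨hu', rel_symm h hr⟩, fun hr => rel_symm h hr.2⟩
  -- the second suborbit
  have hexC : ∀ v, InC v → ∃ z, Rel G a c a z ∧ ∀ u, InB u → (Rel G a b z (β u) ↔ Adj v u = true) := by
    intro v hv
    obtain ⟨m, hm, rfl⟩ := trans_C hv
    obtain ⟨g, hg, ga, hgβ⟩ := L.fwd m hm
    refine ⟨g z0, ?_, fun u hu => ?_⟩
    · obtain ⟨k, hk, k1, rfl⟩ := hz0
      exact ⟨g * k, mul_mem hg hk, by simp [k1, ga], rfl⟩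
    · obtain ⟨u', hu', rfl⟩ : ∃ u', InB u' ∧ m u' = u := ⟨m⁻¹ u, inB_M0 (inv_mem hm) hu, by simp⟩
      rw [← hgβ u' hu', rel_map_iff hg, hpat0 u' hu', adj_M0 hm]
  let p : V → Ω := fun v => if v = 0 then a else if hv : InC v then (hexC v hv).choose else β v
  have pB : ∀ v, InB v → p v = β v := fun v hv => by
    have h0 : v ≠ 0 := by rintro rfl; simp [InB] at hv
    have hC : ¬ InC v := by unfold InB InC at *; omega
    simp [p, h0, hC]
  have pC : ∀ v, InC v → Rel G a c a (p v) ∧ ∀ u, InB u → (Rel G a b (p v) (β u) ↔ Adj v u = true) := fun v hv => by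
    have h0 : v ≠ 0 := by rintro rfl; simp [InC] at hv
    simp only [p, if_neg h0, dif_pos hv]
    exact (hexC v hv).choose_spec
  have p0 : p 0 = a := by simp [p]
  have pinj : Function.Injective p := by
    intro v w e
    rcases classify v with rfl | hv | hv <;> rcases classify w with rfl | hw | hw
    · rfl
    · rw [p0, pB w hw] at e
      exact absurd (e ▸ L.mem w hw) (not_rel_self h a)
    · rw [p0] at e
      exact absurd (e ▸ (pC w hw).1) (not_C_self h)
    · rw [p0, pB v hv] at e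
      exact absurd (e.symm ▸ L.mem v hv) (not_rel_self h a)
    · rw [pB v hv, pB w hw] at e
      exact L.inj v w hv hw e
    · rw [pB v hv] at e
      exact (disjoint_BC h (L.mem v hv) (e ▸ (pC w hw).1)).elim
    · rw [p0] at e
      exact absurd (e.symm ▸ (pC v hv).1) (not_C_self h)
    · rw [pB w hw] at e
      exact (disjoint_BC h (L.mem w hw) (e.symm ▸ (pC v hv).1)).elim
    · exact pattern_inj hv hw fun u hu => by
        rw [Bool.eq_iff_iff, ← (pC v hv).2 u hu, ← (pC w hw).2 u hu, e]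
  have pbij : Function.Bijective p :=
    (Fintype.bijective_iff_injective_and_card p).mpr ⟨pinj, by rw [h.card, Fintype.card_fin]⟩
  have hCuniq : ∀ z, Rel G a c a z → ∀ v, InC v → (∀ u, InB u → (Rel G a b z (β u) ↔ Adj v u = true)) → z = p v := by
    intro z hz v hv hpat
    obtain ⟨w, rfl⟩ := pbij.2 z
    rcases classify w with rfl | hw | hw
    · rw [p0] at hz; exact absurd hz (not_C_self h)
    · rw [pB w hw] at hz; exact (disjoint_BC h (L.mem w hw) hz).elim
    · congr 1
      exact pattern_inj hw hv fun u hu => by rw [Bool.eq_iff_iff, ← (pC w hw).2 u hu, hpat u hu]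
  have hlift : ∀ g ∈ G, g a = a → ∀ m ∈ M0, (∀ u, InB u → g (β u) = β (m u)) → ∀ v, g (p v) = p (m v) := by
    intro g hg ga m hm hgβ v
    rcases classify v with rfl | hv | hv
    · rw [p0, M0_zero hm, p0, ga]
    · rw [pB v hv, pB _ (inB_M0 hm hv), hgβ v hv]
    · refine hCuniq _ ?_ _ (inC_M0 hm hv) fun u hu => ?_
      · obtain ⟨k, hk, k1, k2⟩ := (pC v hv).1
        exact ⟨g * k, mul_mem hg hk, by simp [k1, ga], by simp [k2]⟩
      · obtain ⟨u', hu', rfl⟩ : ∃ u', InB u' ∧ m u' = u := ⟨m⁻¹ u, inB_M0 (inv_mem hm) hu, by simp⟩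
        rw [← hgβ u' hu', rel_map_iff hg, (pC v hv).2 u' hu', adj_M0 hm]
  have hz113 : InC (113 : V) := by decide
  have hT : ∀ v, InC v → (Rel G a b (p 113) (p v) ↔ Adj 113 v = true) := by
    set T : Set V := {v | InC v ∧ Rel G a b (p 113) (p v)} with hTdef
    set N : Set V := {v | InC v ∧ Adj 113 v = true} with hNdef
    set F : Set V := {v | InC v ∧ v ≠ 113 ∧ Adj 113 v = false} with hFdef
    obtain ⟨-, hnear, hfar, ⟨c1, c2, c3, c4⟩, hcN, hcF⟩ := second_ok
    have cN : N.ncard = 56 := by rw [← hcN, ← Set.ncard_coe_finset]; congr 1; ext; simp [hNdef]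
    have cF : F.ncard = 105 := by rw [← hcF, ← Set.ncard_coe_finset]; congr 1; ext; simp [hFdef]
    have hmove : ∀ m ∈ M0, m 113 = 113 → ∀ v, InC v → (v ∈ T ↔ m v ∈ T) := by
      intro m hm h113 v hv
      obtain ⟨g, hg, ga, hgβ⟩ := L.fwd m hm
      have e := rel_map_iff (a := a) (b := b) (x := p 113) (y := p v) hg
      rw [hlift g hg ga m hm hgβ, hlift g hg ga m hm hgβ, h113] at e
      simp only [hTdef, Set.mem_ofPred_eq, hv, inC_M0 hm hv, true_and]
      exact e.symm
    have hN' : ∀ v ∈ N, v ∈ T ↔ (136 : V) ∈ T := by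
      rintro v ⟨hv, hA⟩
      obtain ⟨m, hm, h113, rfl⟩ := trans_C_near hv hA
      exact (hmove m hm h113 136 c1).symm
    have hF' : ∀ v ∈ F, v ∈ T ↔ (114 : V) ∈ T := by
      rintro v ⟨hv, hne, hA⟩
      obtain ⟨m, hm, h113, rfl⟩ := trans_C_far hv hne hA
      exact (hmove m hm h113 114 c3).symm
    have hTsub : T ⊆ N ∪ F := by
      rintro v ⟨hv, hR⟩
      have hne : v ≠ 113 := fun e => not_rel_self h _ (e ▸ hR)
      cases hA : Adj 113 v
      · exact Or.inr ⟨hv, hne, hA⟩
      · exact Or.inl ⟨hv, hA⟩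
    have hT56 : T.ncard = 56 := by
      have hs := split_ncard h {z | Rel G a b (p 113) z}
      rw [ncard_nbhd h] at hs
      have e0 : ({z | Rel G a b (p 113) z} ∩ {a}).ncard = 0 := by
        rw [Set.ncard_eq_zero (Set.toFinite _)]
        refine Set.eq_empty_of_forall_notMem ?_
        rintro z ⟨hz, rfl⟩
        exact disjoint_BC h (rel_symm h hz) (pC 113 hz113).1
      have e1 : ({z | Rel G a b (p 113) z} ∩ {z | Rel G a b a z}).ncard = 56 := by
        rw [inter_B h L, ncard_lab h L,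
          ← show (Finset.univ.filter fun u : V => InB u ∧ Adj 113 u = true).card = 56 by decide +kernel,
          ← Set.ncard_coe_finset]
        congr 1
        ext u
        simp only [Set.mem_ofPred_eq, Finset.coe_filter, Finset.mem_univ, true_and]
        exact and_congr_right fun hu => (pC 113 hz113).2 u hu
      have e2 : ({z | Rel G a b (p 113) z} ∩ {z | Rel G a c a z}) = p '' T := by
        ext z
        constructor
        · rintro ⟨hz, hzC⟩
          obtain ⟨v, rfl⟩ := pbij.2 z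
          rcases classify v with rfl | hv | hv
          · rw [p0] at hzC; exact absurd hzC (not_C_self h)
          · rw [pB v hv] at hzC; exact (disjoint_BC h (L.mem v hv) hzC).elim
          · exact ⟨v, ⟨hv, hz⟩, rfl⟩
        · rintro ⟨v, ⟨hv, hR⟩, rfl⟩
          exact ⟨hR, (pC v hv).1⟩
      rw [e0, e1, e2, Set.ncard_image_of_injective _ pinj] at hs
      omega
    have h114 : (114 : V) ∉ T := by
      intro h4
      have := Set.ncard_le_ncard (show F ⊆ T from fun v hv => (hF' v hv).mpr h4)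
      omega
    have hTN : T ⊆ N := fun v hv => (hTsub hv).resolve_right fun hF => h114 ((hF' v hF).mp hv)
    have hTeq : T = N := Set.eq_of_subset_of_ncard_le hTN (by omega)
    intro v hv
    have := Set.ext_iff.mp hTeq v
    simpa [hTdef, hNdef, hv] using this
  refine ⟨Equiv.ofBijective p pbij, p0, ?_, fun g hg ga => ?_⟩
  · have hCC : ∀ v w, InC v → InC w → (Rel G a b (p v) (p w) ↔ Adj v w = true) := by
      intro v w hv hw
      obtain ⟨m, hm, rfl⟩ := trans_C hv
      obtain ⟨g, hg, ga, hgβ⟩ := L.fwd m hm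
      obtain ⟨w', hw', rfl⟩ : ∃ w', InC w' ∧ m w' = w := ⟨m⁻¹ w, inC_M0 (inv_mem hm) hw, by simp⟩
      rw [← hlift g hg ga m hm hgβ, ← hlift g hg ga m hm hgβ, rel_map_iff hg, hT w' hw', adj_M0 hm]
    have h0 : ∀ j, Rel G a b a (p j) ↔ Adj 0 j = true := by
      intro j
      rw [zero_row, decide_eq_true_eq]
      rcases classify j with rfl | hj | hj
      · rw [p0]; simp [InB, not_rel_self h a]
      · rw [pB j hj]; simp [hj, L.mem j hj]
      · have : ¬ InB j := by unfold InB InC at *; omega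
        exact iff_of_false (fun hr => disjoint_BC h hr (pC j hj).1) this
    intro i j
    show Rel G a b (p i) (p j) ↔ _
    rcases classify i with rfl | hi | hi
    · rw [p0]; exact h0 j
    · rcases classify j with rfl | hj | hj
      · rw [p0, adj_comm i 0, ← h0 i]
        exact ⟨rel_symm h, rel_symm h⟩
      · rw [pB i hi, pB j hj]; exact rel_lab h L hi hj
      · rw [pB i hi, adj_comm i j, ← (pC j hj).2 i hi]
        exact ⟨rel_symm h, rel_symm h⟩
    · rcases classify j with rfl | hj | hj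
      · rw [p0, adj_comm i 0, ← h0 i]
        exact ⟨rel_symm h, rel_symm h⟩
      · rw [pB j hj]; exact (pC i hi).2 j hj
      · exact hCC i j hi hj
  · obtain ⟨m, hm, hgβ⟩ := L.bwd g hg ga
    exact ⟨m, hm, hlift g hg ga m hm hgβ⟩

end

end CfsgLib.McLRankThree
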