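import Cfsg.Agent.McLRankThree.PointCheck
import Cfsg.Agent.McLU43.Main
import Cfsg.Agent.McLFusion.Main

/-!
# The standard group of the graph on 275 points

The McLaughlin group as a group of permutations of `Fin 275`, its point stabiliser and the graph it preserves.
-/

set_option autoImplicit false
set_option maxRecDepth 100000
set_option maxHeartbeats 2000000
set_option linter.style.haveILetI false
set_option Elab.async false

namespace CfsgLib.McLRankThree

open Cfsg CfsgLib CfsgLib.Golay MulAction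
open Cfsg.Agent.McLSimple (mclStab xSet dotL enc toL)
open Cfsg.Agent.McLU43 (ofL gen third rawL S0 K9)

attribute [local irreducible] CfsgLib.Leech.shortVecs CfsgLib.Leech.halfTable CfsgLib.Leech.quarterTable

attribute [local irreducible] vecL vecN adjRows permBits level0 level1 level2 level3 level4

/-- The points. -/
abbrev V : Type := Fin 275

/-- A tabulated map. -/
def tab (l : ℕ) (v : V) : V := Fin.ofNat 275 (getP (permBits.getD (l % 32) 0) v.val)

/-- A word of tabulated maps, the last letter first. -/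
def app (w : List ℕ) (v : V) : V := w.foldr tab v

/-- The adjacency. -/
def Adj (i j : V) : Bool := (adjRows.getD i.val 0).testBit j.val

theorem tab_inv : ∀ l : Fin 32, ∀ v : V, tab (l.val ^^^ 1) (tab l.val v) = v := by decide +kernel

theorem tab_mod (l : ℕ) (v : V) : tab (l % 32) v = tab l v := by simp [tab]

/-- A tabulated permutation. -/
noncomputable def pk (l : ℕ) : Equiv.Perm V :=
  Equiv.ofBijective (tab l) (Finite.injective_iff_bijective.mp fun a b h => by
    have e := congrArg (tab ((l % 32) ^^^ 1)) ((tab_mod l a).trans (h.trans (tab_mod l b).symm))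
    rw [tab_inv ⟨l % 32, Nat.mod_lt _ (by norm_num)⟩ a, tab_inv ⟨l % 32, Nat.mod_lt _ (by norm_num)⟩ b] at e
    exact e)

@[simp] theorem pk_apply (l : ℕ) (v : V) : pk l v = tab l v := rfl

theorem pk_mod (l : ℕ) : pk (l % 32) = pk l := Equiv.ext fun v => by simp [tab_mod]

/-- The permutation of a word. -/
noncomputable def wperm (w : List ℕ) : Equiv.Perm V := (w.map pk).prod

theorem wperm_apply : ∀ (w : List ℕ) (v : V), wperm w v = app w v
  | [], _ => by simp [wperm, app]
  | l :: w, v => by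
    have ih := wperm_apply w v
    simp only [wperm, app, List.map_cons, List.prod_cons, Equiv.Perm.mul_apply, List.foldr_cons] at ih ⊢
    rw [ih, pk_apply]

/-- The six generators of the point stabiliser generate this group. -/
def M0 : Subgroup (Equiv.Perm V) := Subgroup.closure (Set.range fun l : Fin 6 => pk (2 * l.val))

theorem def_ok : ∀ i : Fin 16, 6 ≤ i.val → ∃ d ∈ permDefs, d.1 = i.val ∧
    (d.2.all fun l => decide (l < 2 * i.val)) = true ∧ ∀ v : V, tab (2 * i.val) v = app d.2 v := by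
  decide +kernel

theorem pk_odd (i : Fin 16) : pk (2 * i.val + 1) = (pk (2 * i.val))⁻¹ := by
  refine eq_inv_of_mul_eq_one_left (Equiv.ext fun v => ?_)
  have h := tab_inv ⟨2 * i.val, by omega⟩ v
  have e : (2 * i.val) ^^^ 1 = 2 * i.val + 1 :=
    (by decide : ∀ j : Fin 16, (2 * j.val) ^^^ 1 = 2 * j.val + 1) i
  rw [e] at h
  simpa using h

theorem pk_mem_lt : ∀ l : ℕ, l < 32 → pk l ∈ M0 := by
  intro l
  induction l using Nat.strong_induction_on with
  | _ l ih =>
    intro hl
    have key : ∀ i : Fin 16, 2 * i.val ≤ l → pk (2 * i.val) ∈ M0 := by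
      intro i hi
      rcases lt_or_ge i.val 6 with h6 | h6
      · exact Subgroup.subset_closure ⟨⟨i.val, h6⟩, rfl⟩
      · obtain ⟨d, -, -, hlet, heq⟩ := def_ok i h6
        have e : pk (2 * i.val) = wperm d.2 := Equiv.ext fun v => by rw [wperm_apply, pk_apply, heq]
        rw [e, wperm]
        refine list_prod_mem fun x hx => ?_
        obtain ⟨k, hk, rfl⟩ := List.mem_map.mp hx
        have := of_decide_eq_true (List.all_eq_true.mp hlet k hk)
        exact ih k (by omega) (by omega)
    rcases Nat.even_or_odd' l with ⟨j, rfl | rfl⟩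
    · exact key ⟨j, by omega⟩ le_rfl
    · have := key ⟨j, by omega⟩ (by simp)
      rw [show pk (2 * j + 1) = (pk (2 * j))⁻¹ from pk_odd ⟨j, by omega⟩]
      exact inv_mem this

theorem pk_mem (l : ℕ) : pk l ∈ M0 := pk_mod l ▸ pk_mem_lt (l % 32) (Nat.mod_lt _ (by norm_num))

theorem wperm_mem (w : List ℕ) : wperm w ∈ M0 := by
  refine list_prod_mem fun x hx => ?_
  obtain ⟨k, -, rfl⟩ := List.mem_map.mp hx
  exact pk_mem k

/-! ### The lattice points -/

theorem vec_facts (i : V) : Leech.LeechTest (ofL (vecL.getD i.val [])) ∧ sqNorm (ofL (vecL.getD i.val [])) = 32 ∧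
    ofL (vecL.getD i.val []) none + ofL (vecL.getD i.val []) (some 0) = 4 ∧
    (∑ p, ofL (vecL.getD i.val []) p) = 24 - 4 * ofL (vecL.getD i.val []) none ∧
    toL (ofL (vecL.getD i.val [])) = vecL.getD i.val [] := by
  have hl := vec_keys.2
  have h := List.all_eq_true.mp pts_ok (vecL.getD i.val [])
    (by rw [List.getD_eq_getElem _ _ (by omega)]; exact List.getElem_mem _)
  simp only [ptOK, Bool.and_eq_true, decide_eq_true_eq, and_assoc] at h
  exact h

/-- The lattice point. -/
def ptv (i : V) : leechLattice := ⟨_, Leech.mem_of_test (vec_facts i).1⟩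

theorem toL_ptv (i : V) : toL (ofL (vecL.getD i.val [])) = vecL.getD i.val [] := (vec_facts i).2.2.2.2

theorem ptv_mem (i : V) : ptv i ∈ xSet :=
  (Cfsg.Agent.McLSimple.inX_iff _).mpr ⟨(vec_facts i).2.1, (vec_facts i).2.2.1, (vec_facts i).2.2.2.1⟩

theorem keys_inj {L : List (List ℤ)} (h : (L.map enc).Nodup) {a b : ℕ} (ha : a < L.length) (hb : b < L.length)
    (e : L.getD a [] = L.getD b []) : a = b := by
  rw [List.getD_eq_getElem _ _ ha, List.getD_eq_getElem _ _ hb] at e
  exact (List.Nodup.getElem_inj_iff (List.Nodup.of_map enc h)).mp e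

theorem ptv_injective : Function.Injective ptv := by
  intro a b h
  have h1 : ofL (vecL.getD a.val []) = ofL (vecL.getD b.val []) := congrArg Subtype.val h
  have h2 := congrArg toL h1
  rw [toL_ptv a, toL_ptv b] at h2
  refine Fin.ext (keys_inj vec_keys.1 ?_ ?_ h2) <;> rw [vec_keys.2]
  exacts [a.isLt, b.isLt]

theorem ptv_surj {x : leechLattice} (hx : x ∈ xSet) : ∃ i, ptv i = x := by
  have hsub : Set.range ptv ⊆ xSet := by rintro _ ⟨i, rfl⟩; exact ptv_mem i
  have heq := Set.eq_of_subset_of_ncard_le hsub (by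
    rw [Set.ncard_range_of_injective ptv_injective, Cfsg.Agent.McLSimple.ncard_xSet, Nat.card_eq_fintype_card,
      Fintype.card_fin]) Cfsg.Agent.McLSimple.finite_xSet
  exact (heq ▸ hx : x ∈ Set.range ptv)

theorem ptv_zero : ptv 0 = third := by
  refine Subtype.ext (funext ?_)
  show ∀ p, ofL (vecL.getD 0 []) p = ofL Cfsg.Agent.McLU43.thirdVec p
  decide +kernel

/-- The action on the numbers of the points. -/
noncomputable def actFun (g : mclStab) (i : V) : V :=
  (ptv_surj (Cfsg.Agent.McLSimple.inX_smul g.2 (ptv_mem i))).choose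

theorem ptv_actFun (g : mclStab) (i : V) : ptv (actFun g i) = (g : Co0) • ptv i :=
  (ptv_surj (Cfsg.Agent.McLSimple.inX_smul g.2 (ptv_mem i))).choose_spec

/-- The permutation representation. -/
noncomputable def phi : mclStab →* Equiv.Perm V :=
  MonoidHom.mk' (fun g => Equiv.ofBijective (actFun g) (Finite.injective_iff_bijective.mp fun a b h => by
    have e := congrArg ptv h
    rw [ptv_actFun, ptv_actFun] at e
    exact ptv_injective (MulAction.injective (g : Co0) e))) fun g h => Equiv.ext fun i => ptv_injective (by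
      show ptv (actFun (g * h) i) = ptv (actFun g (actFun h i))
      rw [ptv_actFun, ptv_actFun, ptv_actFun, Subgroup.coe_mul, mul_smul])

theorem ptv_phi (g : mclStab) (i : V) : ptv (phi g i) = (g : Co0) • ptv i := ptv_actFun g i

/-- The group. -/
noncomputable def M : Subgroup (Equiv.Perm V) := phi.range

theorem M_transitive (i j : V) : ∃ m ∈ M, m i = j := by
  have h : ptv j ∈ orbit mclStab (ptv i) := Cfsg.Agent.McLSimple.orbit_eq_xSet (ptv_mem i) ▸ ptv_mem j
  obtain ⟨g, hg⟩ := h
  exact ⟨phi g, ⟨g, rfl⟩, ptv_injective ((ptv_phi g i).trans hg)⟩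

theorem phi_injective : Function.Injective phi := by
  haveI := Cfsg.Agent.McLSimple.simple_mclStab
  rw [← MonoidHom.ker_eq_bot_iff]
  refine (phi.normal_ker.eq_bot_or_eq_top).resolve_right fun h => ?_
  obtain ⟨m, ⟨g, rfl⟩, hm⟩ := M_transitive 0 1
  have : phi g = 1 := MonoidHom.mem_ker.mp (h ▸ Subgroup.mem_top g)
  rw [this] at hm
  exact absurd hm (by decide)

theorem card_M : Nat.card M = 898128000 := by
  rw [← Cfsg.Agent.McLSimple.card_mclStab]
  exact (Nat.card_congr (MonoidHom.ofInjective phi_injective).toEquiv).symm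

theorem rows_all : ∀ k : Fin 11, rowsOK k.val = true := by
  intro k
  fin_cases k
  exacts [rows0, rows1, rows2, rows3, rows4, rows5, rows6, rows7, rows8, rows9, rows10]

theorem adj_iff (i j : V) : Adj i j = true ↔ dotInt (ptv i : GolayPt → ℤ) (ptv j : GolayPt → ℤ) = 8 := by
  obtain ⟨hmap, hlen, hn, hr⟩ := vecN_ok
  have hi : i.val < vecN.length := by omega
  have hj : j.val < vecN.length := by omega
  have h0 := rows_all ⟨i.val / 25, by omega⟩
  rw [rowsOK] at h0
  have hx : (vecN[i.val], adjRows[i.val]'(by omega)) ∈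
      (((vecN.zip adjRows).drop (25 * (i.val / 25))).take 25) := by
    rw [List.mem_iff_getElem]
    refine ⟨i.val % 25, by simp; omega, ?_⟩
    simp only [List.getElem_take, List.getElem_drop, List.getElem_zip]
    congr 1 <;> congr 1 <;> omega
  have hy : (vecN[j.val], j.val) ∈ vecN.zipIdx := by
    rw [List.mem_iff_getElem]
    exact ⟨j.val, by simp; omega, by simp [List.getElem_zipIdx]⟩
  have h := beq_iff_eq.mp (List.all_eq_true.mp (List.all_eq_true.mp h0 _ hx) _ hy)
  simp only at h
  have la : ∀ k : ℕ, ∀ hk : k < vecN.length, (vecN[k]).length = 24 ∧ vecL.getD k [] = lower vecN[k] := by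
    intro k hk
    refine ⟨of_decide_eq_true (List.all_eq_true.mp hlen _ (List.getElem_mem hk)), ?_⟩
    rw [List.getD_eq_getElem _ _ (by rw [← hmap, List.length_map]; exact hk)]
    simp only [← hmap, List.getElem_map]
  obtain ⟨a1, a2⟩ := la _ hi
  obtain ⟨b1, b2⟩ := la _ hj
  rw [Adj, List.getD_eq_getElem _ _ (by omega), h, Nat.beq_eq, Cfsg.Agent.McLSimple.dot_toL]
  show _ ↔ dotL (toL (ofL _)) (toL (ofL _)) = 8
  rw [toL_ptv, toL_ptv, a2, b2, dot_lower _ _ (a1.trans b1.symm), a1]
  omega

theorem adj_M {m : Equiv.Perm V} (hm : m ∈ M) (i j : V) : Adj (m i) (m j) = Adj i j := by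
  obtain ⟨g, rfl⟩ := hm
  rw [Bool.eq_iff_iff, adj_iff, adj_iff, ptv_phi, ptv_phi, Leech.dot_smul']

theorem gen_all : ∀ l : Fin 6, genOK l = true := by
  intro l
  fin_cases l
  exacts [gen0, gen1, gen2, gen3, gen4, gen5]

theorem phi_gen (l : Fin 6) :
    phi ⟨gen l, Cfsg.Agent.McLU43.gen_mem_mclStab l⟩ = pk (2 * l.val) := by
  refine Equiv.ext fun i => ptv_injective ?_
  rw [ptv_phi]
  refine Cfsg.Agent.McLU43.gen_smul_eq fun p => ?_
  have hl := vec_keys.2
  have hm : (i.val, vecL.getD i.val []) ∈ (List.range 275).zip vecL := by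
    rw [List.mem_iff_getElem]
    refine ⟨i.val, by simp; omega, ?_⟩
    rw [List.getD_eq_getElem _ _ (show i.val < vecL.length by omega)]
    simp [List.getElem_zip]
  have h := of_decide_eq_true (List.all_eq_true.mp (gen_all l) _ hm) p
  show rawL l false (toL (ofL _)) p = 8 * ofL (vecL.getD (tab (2 * l.val) i).val []) p
  rw [toL_ptv, h]
  congr 2
  have hlt : ∀ l : Fin 6, ∀ i : V, getP (permBits.getD (2 * l.val) 0) i.val < 275 := by decide +kernel
  simp only [tab, Fin.val_ofNat, Nat.mod_eq_of_lt (show 2 * l.val < 32 by omega), Nat.mod_eq_of_lt (hlt l i)]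

/-- The stabiliser of the first point in the standard group. -/
noncomputable def Mfix : Subgroup (Equiv.Perm V) := M ⊓ stabilizer (Equiv.Perm V) (0 : V)

theorem M0_le : M0 ≤ Mfix := by
  refine (Subgroup.closure_le _).mpr ?_
  rintro _ ⟨l, rfl⟩
  refine ⟨⟨_, phi_gen l⟩, ?_⟩
  show pk (2 * l.val) 0 = 0
  rw [← phi_gen l]
  refine ptv_injective ?_
  rw [ptv_phi, ptv_zero]
  exact Cfsg.Agent.McLU43.gen_third l

/-- The image of the point stabiliser of the lattice group. -/
noncomputable def toFix : S0 →* Mfix :=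
  MonoidHom.mk' (fun g => ⟨phi ⟨g, g.2.1⟩, ⟨_, rfl⟩, ptv_injective (by
    show ptv (phi ⟨g, g.2.1⟩ 0) = ptv 0
    rw [ptv_phi, ptv_zero]; exact g.2.2)⟩) fun a b => Subtype.ext (map_mul phi ⟨a, a.2.1⟩ ⟨b, b.2.1⟩)

theorem toFix_bij : Function.Bijective toFix := by
  refine ⟨fun a b h => ?_, ?_⟩
  · have := phi_injective (congrArg Subtype.val h)
    exact Subtype.ext (congrArg (fun x : mclStab => (x : Co0)) this)
  · rintro ⟨_, ⟨g, rfl⟩, h0⟩
    refine ⟨⟨g, g.2, ?_⟩, rfl⟩
    show (g : Co0) • third = third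
    rw [← ptv_zero, ← ptv_phi, show phi g 0 = 0 from h0]

theorem card_Mfix : Nat.card Mfix = 3265920 := by
  rw [← Cfsg.Agent.McLU43.card_S0]
  exact (Nat.card_congr (Equiv.ofBijective _ toFix_bij)).symm

/-! ### The chain -/

/-- A transversal step: the point moved and the word. -/
def step (L : List (ℕ × List ℕ)) (k : ℕ) : List ℕ := (L.getD k (0, [])).2

theorem chain_ok :
    (∀ i : Fin 112, (app (step level0 i.val) 1).val = i.val + 1) ∧
    (∀ i : Fin 81, app (step level1 i.val) 1 = 1 ∧
      (app (step level1 i.val) 2).val = (level1.getD i.val (0, [])).1) ∧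
    (∀ i : Fin 20, app (step level2 i.val) 1 = 1 ∧ app (step level2 i.val) 2 = 2 ∧
      (app (step level2 i.val) 30).val = (level2.getD i.val (0, [])).1) ∧
    (∀ i : Fin 9, app (step level3 i.val) 1 = 1 ∧ app (step level3 i.val) 2 = 2 ∧ app (step level3 i.val) 30 = 30 ∧
      (app (step level3 i.val) 40).val = (level3.getD i.val (0, [])).1) ∧
    (∀ i : Fin 2, app (step level4 i.val) 1 = 1 ∧ app (step level4 i.val) 2 = 2 ∧ app (step level4 i.val) 30 = 30 ∧
      app (step level4 i.val) 40 = 40 ∧ (app (step level4 i.val) 159).val = (level4.getD i.val (0, [])).1) ∧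
    ((level1.map Prod.fst).Nodup ∧ level1.length = 81) ∧ ((level2.map Prod.fst).Nodup ∧ level2.length = 20) ∧
    ((level3.map Prod.fst).Nodup ∧ level3.length = 9) ∧ ((level4.map Prod.fst).Nodup ∧ level4.length = 2) := by
  decide +kernel

theorem fst_inj {L : List (ℕ × List ℕ)} (h : (L.map Prod.fst).Nodup) {n : ℕ} (hn : L.length = n) {a b : Fin n}
    (e : (L.getD a.val (0, [])).1 = (L.getD b.val (0, [])).1) : a = b := by
  rw [List.getD_eq_getElem _ _ (by omega), List.getD_eq_getElem _ _ (by omega)] at e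
  refine Fin.ext ((h.getElem_inj_iff (hi := by simpa using by omega) (hj := by simpa using by omega)).mp ?_)
  simpa using e

/-- A product along the chain. -/
noncomputable def chainPerm (p : Fin 112 × Fin 81 × Fin 20 × Fin 9 × Fin 2) : Equiv.Perm V :=
  wperm (step level0 p.1.val) * (wperm (step level1 p.2.1.val) * (wperm (step level2 p.2.2.1.val) *
    (wperm (step level3 p.2.2.2.1.val) * wperm (step level4 p.2.2.2.2.val))))

theorem chainPerm_mem (p) : chainPerm p ∈ M0 :=
  mul_mem (wperm_mem _) (mul_mem (wperm_mem _) (mul_mem (wperm_mem _) (mul_mem (wperm_mem _) (wperm_mem _))))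

theorem chainPerm_injective : Function.Injective chainPerm := by
  obtain ⟨h0, h1, h2, h3, h4, n1, n2, n3, n4⟩ := chain_ok
  rintro ⟨a, b, c, d, f⟩ ⟨a', b', c', d', f'⟩ h
  simp only [chainPerm] at h
  have e := congrFun (congrArg DFunLike.coe h) 1
  simp only [Equiv.Perm.mul_apply, wperm_apply, (h4 f).1, (h3 d).1, (h2 c).1, (h1 b).1, (h4 f').1, (h3 d').1,
    (h2 c').1, (h1 b').1] at e
  have e' := congrArg Fin.val e
  rw [h0, h0] at e'
  obtain rfl : a = a' := Fin.ext (by omega)
  rw [mul_right_inj] at h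
  have e := congrFun (congrArg DFunLike.coe h) 2
  simp only [Equiv.Perm.mul_apply, wperm_apply, (h4 f).2.1, (h3 d).2.1, (h2 c).2.1, (h4 f').2.1, (h3 d').2.1,
    (h2 c').2.1] at e
  have e' := congrArg Fin.val e
  rw [(h1 b).2, (h1 b').2] at e'
  obtain rfl : b = b' := fst_inj n1.1 n1.2 e'
  rw [mul_right_inj] at h
  have e := congrFun (congrArg DFunLike.coe h) 30
  simp only [Equiv.Perm.mul_apply, wperm_apply, (h4 f).2.2.1, (h3 d).2.2.1, (h4 f').2.2.1, (h3 d').2.2.1] at e
  have e' := congrArg Fin.val e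
  rw [(h2 c).2.2, (h2 c').2.2] at e'
  obtain rfl : c = c' := fst_inj n2.1 n2.2 e'
  rw [mul_right_inj] at h
  have e := congrFun (congrArg DFunLike.coe h) 40
  simp only [Equiv.Perm.mul_apply, wperm_apply, (h4 f).2.2.2.1, (h4 f').2.2.2.1] at e
  have e' := congrArg Fin.val e
  rw [(h3 d).2.2.2, (h3 d').2.2.2] at e'
  obtain rfl : d = d' := fst_inj n3.1 n3.2 e'
  rw [mul_right_inj] at h
  have e' := congrArg (fun σ : Equiv.Perm V => (σ 159).val) h
  simp only [wperm_apply, (h4 f).2.2.2.2, (h4 f').2.2.2.2] at e'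
  obtain rfl : f = f' := fst_inj n4.1 n4.2 e'
  rfl

theorem M0_eq : M0 = Mfix := by
  refine Subgroup.eq_of_le_of_card_ge M0_le ?_
  rw [card_Mfix]
  have h := Nat.card_le_card_of_injective (fun p => (⟨chainPerm p, chainPerm_mem p⟩ : M0))
    fun p q e => chainPerm_injective (congrArg Subtype.val e)
  simpa [Nat.card_eq_fintype_card] using h

theorem card_M0 : Nat.card M0 = 3265920 := by rw [M0_eq, card_Mfix]

theorem M0_le_M : M0 ≤ M := M0_eq ▸ inf_le_left

theorem M0_zero {m : Equiv.Perm V} (hm : m ∈ M0) : m 0 = 0 := (M0_eq ▸ hm : m ∈ Mfix).2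

theorem mem_M0 {m : Equiv.Perm V} (hm : m ∈ M) (h0 : m 0 = 0) : m ∈ M0 := M0_eq ▸ ⟨hm, h0⟩

/-- The point stabiliser is the unitary group. -/
theorem M0_equiv (F : Type) [Field F] [Fintype F] (hF : Fintype.card F = 9) :
    Nonempty (M0 ≃* Cfsg.PSU 4 F 3) := by
  obtain ⟨E⟩ := Cfsg.Agent.McLU43.nonempty_equiv
  exact ⟨((MulEquiv.subgroupCongr M0_eq).trans (MulEquiv.ofBijective toFix toFix_bij).symm).trans (E.trans
    (CfsgLib.U33Deg.psuCongr (FiniteField.ringEquivOfCardEq (K := K9) (K' := F)
      (by rw [CfsgLib.J2.Perm.F9.card, hF]))))⟩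

/-- The group is the McLaughlin group. -/
theorem M_isMcL : Cfsg.Spor.IsoMcL M :=
  ⟨(MonoidHom.ofInjective phi_injective).symm.trans CfsgLib.McLFusion.eMcL.symm⟩

end CfsgLib.McLRankThree
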