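import Cfsg.Agent.McLRankThree.Model

/-!
# The two suborbits of the standard group and the subgroups of index 112
-/

set_option autoImplicit false
set_option maxRecDepth 100000
set_option maxHeartbeats 2000000
set_option Elab.async false

namespace CfsgLib.McLRankThree

open MulAction

attribute [local irreducible] adjRows permBits

/-- The first suborbit. -/
def InB (v : V) : Prop := 1 ≤ v.val ∧ v.val ≤ 112

/-- The second suborbit. -/
def InC (v : V) : Prop := 113 ≤ v.val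

instance (v : V) : Decidable (InB v) := inferInstanceAs (Decidable (_ ∧ _))
instance (v : V) : Decidable (InC v) := inferInstanceAs (Decidable (_ ≤ _))

theorem classify (v : V) : v = 0 ∨ InB v ∨ InC v := by
  rcases Nat.eq_zero_or_pos v.val with h | h
  · exact Or.inl (Fin.ext h)
  · unfold InB InC; omega

theorem adj_comm (i j : V) : Adj i j = Adj j i := by
  rw [Bool.eq_iff_iff, adj_iff, adj_iff]
  have e : ∀ x y : Cfsg.GolayPt → ℤ, Cfsg.dotInt x y = Cfsg.dotInt y x := fun x y => by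
    simp only [Cfsg.dotInt, mul_comm]
  rw [e]

theorem zero_row : ∀ v : V, Adj 0 v = decide (InB v) := by decide +kernel

theorem adj_self : ∀ v : V, Adj v v = false := by decide +kernel

theorem adj_M0 {m : Equiv.Perm V} (hm : m ∈ M0) (i j : V) : Adj (m i) (m j) = Adj i j := adj_M (M0_le_M hm) i j

theorem inB_M0 {m : Equiv.Perm V} (hm : m ∈ M0) {v : V} (hv : InB v) : InB (m v) := by
  have h := adj_M0 hm 0 v
  rw [M0_zero hm, zero_row, zero_row] at h
  simpa [hv] using h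

theorem inC_M0 {m : Equiv.Perm V} (hm : m ∈ M0) {v : V} (hv : InC v) : InC (m v) := by
  rcases classify (m v) with h | h | h
  · have e : v = 0 := m.injective (h.trans (M0_zero hm).symm)
    subst e; simp [InC] at hv
  · have := inB_M0 (inv_mem hm) h
    simp only [Equiv.Perm.inv_def, Equiv.symm_apply_apply] at this
    unfold InB InC at *; omega
  · exact h

theorem near30_ok : (∀ v : V, InB v → Adj 1 v = true → ∃ e ∈ near30, app e.2 38 = v ∧ app e.2 1 = 1) ∧
    (∀ v : V, InB v → v ≠ 1 → Adj 1 v = false → ∃ e ∈ far81, app e.2 2 = v ∧ app e.2 1 = 1) ∧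
    Adj 1 38 = true ∧ Adj 1 2 = false ∧
    (Finset.univ.filter fun v : V => InB v ∧ Adj 1 v = true).card = 30 ∧
    (Finset.univ.filter fun v : V => InB v ∧ v ≠ 1 ∧ Adj 1 v = false).card = 81 ∧
    (Finset.univ.filter fun v : V => InB v).card = 112 ∧ (Finset.univ.filter fun v : V => InC v).card = 162 := by
  decide +kernel

theorem common_base : ∀ w : V, InB w → Adj 1 w = true →
    (Finset.univ.filter fun z : V => InB z ∧ Adj 1 z = true ∧ Adj w z = true).card = 2 := by
  decide +kernel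

theorem second_ok : (∀ v : V, InC v → ∃ e ∈ second162, app e.2 113 = v) ∧
    (∀ v : V, InC v → Adj 113 v = true → ∃ e ∈ near56, app e.2 136 = v ∧ app e.2 113 = 113) ∧
    (∀ v : V, InC v → v ≠ 113 → Adj 113 v = false → ∃ e ∈ far105, app e.2 114 = v ∧ app e.2 113 = 113) ∧
    (InC 136 ∧ Adj 113 136 = true ∧ InC 114 ∧ Adj 113 114 = false) ∧
    (Finset.univ.filter fun v : V => InC v ∧ Adj 113 v = true).card = 56 ∧
    (Finset.univ.filter fun v : V => InC v ∧ v ≠ 113 ∧ Adj 113 v = false).card = 105 := by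
  decide +kernel

/-- The bits of the first suborbit. -/
def maskB : ℕ := 2 ^ 113 - 2

theorem pattern_check : ∀ i j : Fin 162,
    adjRows.getD (113 + i.val) 0 &&& maskB = adjRows.getD (113 + j.val) 0 &&& maskB → i = j := by
  decide +kernel

theorem testBit_maskB (i : ℕ) : maskB.testBit i = decide (1 ≤ i ∧ i ≤ 112) := by
  rcases lt_or_ge i 113 with h | h
  · exact (by decide : ∀ k : Fin 113, maskB.testBit k.val = decide (1 ≤ k.val ∧ k.val ≤ 112)) ⟨i, h⟩
  · rw [Nat.testBit_lt_two_pow (lt_of_lt_of_le (by decide : maskB < 2 ^ 113) (Nat.pow_le_pow_right two_pos h))]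
    simp; omega

/-- The pattern on the first suborbit determines a point of the second. -/
theorem pattern_inj {v w : V} (hv : InC v) (hw : InC w) (h : ∀ u : V, InB u → Adj v u = Adj w u) : v = w := by
  unfold InC at hv hw
  have e := pattern_check ⟨v.val - 113, by omega⟩ ⟨w.val - 113, by omega⟩ (by
    show adjRows.getD (113 + (v.val - 113)) 0 &&& maskB = adjRows.getD (113 + (w.val - 113)) 0 &&& maskB
    rw [show 113 + (v.val - 113) = v.val by omega, show 113 + (w.val - 113) = w.val by omega]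
    refine Nat.eq_of_testBit_eq fun i => ?_
    rw [Nat.testBit_and, Nat.testBit_and, testBit_maskB]
    by_cases hi : 1 ≤ i ∧ i ≤ 112
    · have := h ⟨i, by omega⟩ hi
      simp only [Adj] at this
      rw [this]
    · simp [hi])
  exact Fin.ext (by have := congrArg Fin.val e; simp at this; omega)

/-- Elements agreeing on the first suborbit are equal. -/
theorem M0_ext {m m' : Equiv.Perm V} (hm : m ∈ M0) (hm' : m' ∈ M0) (h : ∀ u, InB u → m u = m' u) : m = m' := by
  refine Equiv.ext fun v => ?_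
  rcases classify v with rfl | hv | hv
  · rw [M0_zero hm, M0_zero hm']
  · exact h v hv
  · refine pattern_inj (inC_M0 hm hv) (inC_M0 hm' hv) fun u hu => ?_
    obtain ⟨u', hu', rfl⟩ : ∃ u', InB u' ∧ m u' = u :=
      ⟨m⁻¹ u, inB_M0 (inv_mem hm) hu, by simp⟩
    rw [adj_M0 hm, h u' hu', adj_M0 hm']

theorem trans_B {v : V} (hv : InB v) : ∃ m ∈ M0, m 1 = v := by
  unfold InB at hv
  refine ⟨wperm (step level0 (v.val - 1)), wperm_mem _, ?_⟩
  rw [wperm_apply]
  have := chain_ok.1 ⟨v.val - 1, by omega⟩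
  exact Fin.ext (this.trans (by simp only; omega))

theorem inB_one : InB 1 := by decide

theorem trans_C {v : V} (hv : InC v) : ∃ m ∈ M0, m 113 = v := by
  obtain ⟨e, -, he⟩ := second_ok.1 v hv
  exact ⟨_, wperm_mem e.2, by rw [wperm_apply, he]⟩

theorem trans_near {v w : V} (hv : InB v) (hv' : Adj 1 v = true) (hw : InB w) (hw' : Adj 1 w = true) :
    ∃ m ∈ M0, m 1 = 1 ∧ m v = w := by
  obtain ⟨e, -, e1, e2⟩ := near30_ok.1 v hv hv'
  obtain ⟨f, -, f1, f2⟩ := near30_ok.1 w hw hw'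
  have a1 : (wperm e.2)⁻¹ 1 = 1 := Equiv.Perm.inv_eq_iff_eq.mpr (by rw [wperm_apply, e2])
  have a2 : (wperm e.2)⁻¹ v = 38 := Equiv.Perm.inv_eq_iff_eq.mpr (by rw [wperm_apply, e1])
  refine ⟨wperm f.2 * (wperm e.2)⁻¹, mul_mem (wperm_mem _) (inv_mem (wperm_mem _)), ?_, ?_⟩
  · rw [Equiv.Perm.mul_apply, a1, wperm_apply, f2]
  · rw [Equiv.Perm.mul_apply, a2, wperm_apply, f1]

theorem trans_far {v w : V} (hv : InB v) (hv1 : v ≠ 1) (hv' : Adj 1 v = false) (hw : InB w) (hw1 : w ≠ 1)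
    (hw' : Adj 1 w = false) : ∃ m ∈ M0, m 1 = 1 ∧ m v = w := by
  obtain ⟨e, -, e1, e2⟩ := near30_ok.2.1 v hv hv1 hv'
  obtain ⟨f, -, f1, f2⟩ := near30_ok.2.1 w hw hw1 hw'
  have a1 : (wperm e.2)⁻¹ 1 = 1 := Equiv.Perm.inv_eq_iff_eq.mpr (by rw [wperm_apply, e2])
  have a2 : (wperm e.2)⁻¹ v = 2 := Equiv.Perm.inv_eq_iff_eq.mpr (by rw [wperm_apply, e1])
  refine ⟨wperm f.2 * (wperm e.2)⁻¹, mul_mem (wperm_mem _) (inv_mem (wperm_mem _)), ?_, ?_⟩
  · rw [Equiv.Perm.mul_apply, a1, wperm_apply, f2]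
  · rw [Equiv.Perm.mul_apply, a2, wperm_apply, f1]

theorem trans_C_near {v : V} (hv : InC v) (hv' : Adj 113 v = true) : ∃ m ∈ M0, m 113 = 113 ∧ m 136 = v := by
  obtain ⟨e, -, e1, e2⟩ := second_ok.2.1 v hv hv'
  exact ⟨_, wperm_mem e.2, by rw [wperm_apply, e2], by rw [wperm_apply, e1]⟩

theorem trans_C_far {v : V} (hv : InC v) (hv1 : v ≠ 113) (hv' : Adj 113 v = false) :
    ∃ m ∈ M0, m 113 = 113 ∧ m 114 = v := by
  obtain ⟨e, -, e1, e2⟩ := second_ok.2.2.1 v hv hv1 hv'
  exact ⟨_, wperm_mem e.2, by rw [wperm_apply, e2], by rw [wperm_apply, e1]⟩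

theorem common_two {u w : V} (hu : InB u) (hw : InB w) (h : Adj u w = true) :
    {z : V | InB z ∧ Adj u z = true ∧ Adj w z = true}.ncard = 2 := by
  obtain ⟨m, hm, rfl⟩ := trans_B hu
  have hw0 : InB (m⁻¹ w) := inB_M0 (inv_mem hm) hw
  have hw1 : Adj 1 (m⁻¹ w) = true := by rw [← adj_M0 hm]; simpa using h
  rw [← common_base _ hw0 hw1, ← Set.ncard_coe_finset,
    ← Set.ncard_image_of_injective (↑(Finset.univ.filter fun z : V => InB z ∧ Adj 1 z = true ∧
      Adj (m⁻¹ w) z = true) : Set V) m.injective]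
  congr 1
  ext z
  simp only [Set.mem_ofPred_eq, Set.mem_image, Finset.coe_filter, Finset.mem_univ, true_and]
  constructor
  · rintro ⟨a, b, c⟩
    refine ⟨m⁻¹ z, ⟨inB_M0 (inv_mem hm) a, ?_, ?_⟩, by simp⟩
    · rw [← adj_M0 hm]; simpa using b
    · rw [← adj_M0 hm]; simpa using c
  · rintro ⟨y, ⟨a, b, c⟩, rfl⟩
    refine ⟨inB_M0 hm a, by rw [adj_M0 hm]; exact b, ?_⟩
    rw [← adj_M0 hm] at c; simpa using c

/-! ### Subgroups of index 112 -/

/-- Point stabilisers inside the point stabiliser. -/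
abbrev St (v : V) : Subgroup M0 := stabilizer M0 v

theorem card_orbit_mul (A : Subgroup M0) (v : V) :
    (orbit A v).ncard * Nat.card (A ⊓ St v : Subgroup M0) = Nat.card A := by
  rw [← (stabilizer A v).card_mul_index, index_stabilizer, mul_comm]
  congr 1
  exact Nat.card_congr
    { toFun := fun k => ⟨⟨k.1, k.2.1⟩, k.2.2⟩
      invFun := fun k => ⟨k.1.1, k.1.2, k.2⟩
      left_inv := fun _ => rfl
      right_inv := fun _ => rfl }

theorem card_St_one : Nat.card (St 1) = 29160 := by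
  have h := card_orbit_mul ⊤ 1
  rw [top_inf_eq, Nat.card_congr Subgroup.topEquiv.toEquiv, card_M0] at h
  have e : orbit (⊤ : Subgroup M0) (1 : V) = {v | InB v} := by
    ext v
    constructor
    · rintro ⟨⟨m, -⟩, rfl⟩; exact inB_M0 m.2 inB_one
    · intro hv
      obtain ⟨m, hm, e⟩ := trans_B hv
      exact ⟨⟨⟨m, hm⟩, trivial⟩, e⟩
  rw [e, show {v : V | InB v} = ↑(Finset.univ.filter fun v : V => InB v) by ext; simp, Set.ncard_coe_finset,
    near30_ok.2.2.2.2.2.2.1] at h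
  omega

theorem card_near {v : V} (hv : InB v) (h : Adj 1 v = true) : Nat.card (St 1 ⊓ St v : Subgroup M0) = 972 := by
  have := card_orbit_mul (St 1) v
  rw [card_St_one] at this
  have e : orbit (St 1) v = ↑(Finset.univ.filter fun w : V => InB w ∧ Adj 1 w = true) := by
    ext w
    simp only [Finset.coe_filter, Finset.mem_univ, true_and, Set.mem_ofPred_eq]
    constructor
    · rintro ⟨⟨m, hm⟩, rfl⟩
      refine ⟨inB_M0 m.2 hv, ?_⟩
      have := adj_M0 m.2 1 v
      rw [show (m : Equiv.Perm V) 1 = 1 from hm] at this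
      exact this.trans h
    · rintro ⟨hw, hw'⟩
      obtain ⟨m, hm, e1, e2⟩ := trans_near hv h hw hw'
      exact ⟨⟨⟨m, hm⟩, e1⟩, e2⟩
  rw [e, Set.ncard_coe_finset, near30_ok.2.2.2.2.1] at this
  omega

theorem card_far {v : V} (hv : InB v) (hne : v ≠ 1) (h : Adj 1 v = false) :
    Nat.card (St 1 ⊓ St v : Subgroup M0) = 360 := by
  have := card_orbit_mul (St 1) v
  rw [card_St_one] at this
  have e : orbit (St 1) v = ↑(Finset.univ.filter fun w : V => InB w ∧ w ≠ 1 ∧ Adj 1 w = false) := by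
    ext w
    simp only [Finset.coe_filter, Finset.mem_univ, true_and, Set.mem_ofPred_eq]
    constructor
    · rintro ⟨⟨m, hm⟩, rfl⟩
      have hm1 : (m : Equiv.Perm V) 1 = 1 := hm
      refine ⟨inB_M0 m.2 hv, fun e => hne ((m : Equiv.Perm V).injective (e.trans hm1.symm)), ?_⟩
      have := adj_M0 m.2 1 v
      rw [hm1] at this
      exact this.trans h
    · rintro ⟨hw, hw1, hw'⟩
      obtain ⟨m, hm, e1, e2⟩ := trans_far hv hne h hw hw1 hw'
      exact ⟨⟨⟨m, hm⟩, e1⟩, e2⟩
  rw [e, Set.ncard_coe_finset, near30_ok.2.2.2.2.2.1] at this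
  omega

theorem card_le_inf {A B : Subgroup M0} (h : A ≤ B) : Nat.card A ≤ Nat.card B :=
  Nat.card_le_card_of_injective _ (Subgroup.inclusion_injective h)

/-- A subgroup of order 29160 with a common Sylow subgroup fixes the point. -/
theorem eq_St_one (H Q : Subgroup M0) (hH : Nat.card H = 29160) (hQ : Nat.card Q = 729) (hQH : Q ≤ H)
    (hQ1 : Q ≤ St 1) : H = St 1 := by
  set O := orbit H (1 : V) with hO
  have hcard := card_orbit_mul H 1
  rw [hH] at hcard
  obtain ⟨k, hk⟩ : 729 ∣ Nat.card (H ⊓ St 1 : Subgroup M0) := hQ ▸ Subgroup.card_dvd_of_le (le_inf hQH hQ1)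
  have h40 : O.ncard ∣ 40 := by
    refine ⟨k, ?_⟩
    rw [hk, ← hO] at hcard
    have : O.ncard * k * 729 = 40 * 729 := by rw [mul_assoc, mul_comm k]; simpa using hcard
    exact (Nat.eq_of_mul_eq_mul_right (by norm_num) this).symm
  have hO40 : O.ncard ≤ 40 := Nat.le_of_dvd (by norm_num) h40
  have hB : ∀ v ∈ O, InB v := by
    rintro _ ⟨⟨m, -⟩, rfl⟩
    exact inB_M0 m.2 inB_one
  have hnear : ∀ v ∈ O, v ≠ 1 → Adj 1 v = true := by
    intro v hv hv1
    by_contra hf
    rw [Bool.not_eq_true] at hf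
    have h := card_orbit_mul Q v
    have hsub : orbit Q v ⊆ O := by
      rintro _ ⟨⟨q, hq⟩, rfl⟩
      obtain ⟨⟨m, hm⟩, rfl⟩ := hv
      exact ⟨⟨q * m, mul_mem (hQH hq) hm⟩, mul_smul q m 1⟩
    have hle : (orbit Q v).ncard ≤ 40 := le_trans (Set.ncard_le_ncard hsub) hO40
    have hd : Nat.card (Q ⊓ St v : Subgroup M0) ∣ 9 := by
      have h1 : Nat.card (Q ⊓ St v : Subgroup M0) ∣ 729 := hQ ▸ Subgroup.card_dvd_of_le inf_le_left
      have h2 : Nat.card (Q ⊓ St v : Subgroup M0) ∣ 360 :=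
        card_far (hB v hv) hv1 hf ▸ Subgroup.card_dvd_of_le (inf_le_inf_right _ hQ1)
      have := Nat.dvd_gcd h1 h2
      norm_num at this
      exact this
    have h9 := Nat.le_of_dvd (by norm_num) hd
    rw [hQ] at h
    nlinarith
  by_cases hall : ∀ v ∈ O, v = 1
  · refine Subgroup.eq_of_le_of_card_ge (fun m hm => ?_) (le_of_eq (by rw [card_St_one, hH]))
    exact hall _ ⟨⟨m, hm⟩, rfl⟩
  exfalso
  push Not at hall
  obtain ⟨v, hv, hv1⟩ := hall
  have hclique : ∀ x ∈ O, ∀ y ∈ O, x ≠ y → Adj x y = true := by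
    rintro _ ⟨⟨m, hm⟩, rfl⟩ _ ⟨⟨n, hn⟩, rfl⟩ hne
    show Adj ((m : Equiv.Perm V) 1) ((n : Equiv.Perm V) 1) = true
    rw [← adj_M0 (inv_mem m.2)]
    simp only [Equiv.Perm.inv_def, Equiv.symm_apply_apply]
    refine hnear _ ⟨⟨m⁻¹ * n, mul_mem (inv_mem hm) hn⟩, ?_⟩ fun e => hne ?_
    · show ((m⁻¹ * n : M0) : Equiv.Perm V) 1 = _
      simp [Equiv.Perm.inv_def]
    · show (m : Equiv.Perm V) 1 = (n : Equiv.Perm V) 1
      rw [Equiv.symm_apply_eq] at e
      exact e.symm
  have h4 : O.ncard ≤ 4 := by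
    have hsub : O ⊆ insert 1 (insert v {z : V | InB z ∧ Adj 1 z = true ∧ Adj v z = true}) := by
      intro z hz
      by_cases h1 : z = 1
      · exact Or.inl h1
      by_cases h2 : z = v
      · exact Or.inr (Or.inl h2)
      exact Or.inr (Or.inr ⟨hB z hz, hnear z hz h1, hclique v hv z hz (Ne.symm h2)⟩)
    refine le_trans (Set.ncard_le_ncard hsub) ?_
    refine le_trans (Set.ncard_insert_le _ _) (Nat.succ_le_succ (le_trans (Set.ncard_insert_le _ _) ?_))
    rw [common_two inB_one (hB v hv) (hnear v hv hv1)]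
  have h3 := card_orbit_mul (H ⊓ St 1) v
  have hsub : orbit (H ⊓ St 1 : Subgroup M0) v ⊆ O \ {1} := by
    rintro _ ⟨⟨m, hm, hm1⟩, rfl⟩
    obtain ⟨⟨n, hn⟩, rfl⟩ := hv
    refine ⟨⟨⟨m * n, mul_mem hm hn⟩, mul_smul m n 1⟩, fun e => hv1 ?_⟩
    rw [Set.mem_singleton_iff] at e
    exact (m : Equiv.Perm V).injective (e.trans (show (m : Equiv.Perm V) 1 = 1 from hm1).symm)
  have h5 : (orbit (H ⊓ St 1 : Subgroup M0) v).ncard ≤ 3 := by
    refine le_trans (Set.ncard_le_ncard hsub) ?_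
    rw [Set.ncard_sdiff_singleton_of_mem (s := O) (mem_orbit_self 1)]
    omega
  have h6 : Nat.card (H ⊓ St 1 ⊓ St v : Subgroup M0) ≤ 972 :=
    card_near (hB v hv) (hnear v hv hv1) ▸ card_le_inf (inf_le_inf_right _ inf_le_right)
  have h7 : Nat.card (H ⊓ St 1 : Subgroup M0) ≤ 3 * 972 := h3 ▸ Nat.mul_le_mul h5 h6
  have h8 := Nat.mul_le_mul h4 h7
  rw [← hO] at hcard
  omega

/-- Every subgroup of index 112 fixes a point of the first suborbit. -/
theorem index_112 (H : Subgroup M0) (hH : Nat.card H = 29160) :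
    ∃ u : V, InB u ∧ H = St u := by
  haveI : Fact (Nat.Prime 3) := ⟨Nat.prime_three⟩
  obtain ⟨QH, hQH⟩ := Sylow.exists_subgroup_card_pow_prime (G := H) 3 (n := 6) (by rw [hH]; norm_num)
  obtain ⟨Q1, hQ1⟩ := Sylow.exists_subgroup_card_pow_prime (G := St 1) 3 (n := 6) (by rw [card_St_one]; norm_num)
  have c1 : Nat.card (QH.map H.subtype) = 3 ^ 6 := by
    rw [Subgroup.card_map_of_injective H.subtype_injective]; exact hQH
  have c2 : Nat.card (Q1.map (St 1).subtype) = 3 ^ 6 := by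
    rw [Subgroup.card_map_of_injective (St 1).subtype_injective]; exact hQ1
  have hidx : ∀ R : Subgroup M0, Nat.card R = 3 ^ 6 → ¬ 3 ∣ R.index := by
    intro R hR
    have := R.card_mul_index
    rw [hR, card_M0] at this
    omega
  let S1 : Sylow 3 M0 := (IsPGroup.of_card c1).toSylow (hidx _ c1)
  let S2 : Sylow 3 M0 := (IsPGroup.of_card c2).toSylow (hidx _ c2)
  obtain ⟨m, hm⟩ := MulAction.exists_smul_eq M0 S1 S2
  have e := congrArg (fun P : Sylow 3 M0 => (P : Subgroup M0)) hm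
  simp only [Sylow.coe_subgroup_smul, S1, S2, IsPGroup.toSylow_coe] at e
  have key := eq_St_one (H.map (MulAut.conj m).toMonoidHom) (Q1.map (St 1).subtype) ?_ c2 ?_ ?_
  · refine ⟨(m⁻¹ : M0) • (1 : V), inB_M0 (inv_mem m.2) inB_one, ?_⟩
    ext h
    have hh : h ∈ H ↔ m * h * m⁻¹ ∈ St 1 := by
      rw [← key, Subgroup.mem_map_equiv]
      simp [MulAut.conj_symm_apply, mul_assoc]
    rw [hh, mem_stabilizer_iff, mem_stabilizer_iff, mul_smul, mul_smul]
    exact eq_inv_smul_iff.symm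
  · rw [Subgroup.card_map_of_injective (MulAut.conj m).injective]; exact hH
  · rw [← e]
    exact Subgroup.map_mono (Subgroup.map_subtype_le _)
  · exact Subgroup.map_subtype_le _

end CfsgLib.McLRankThree
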