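import Cfsg.Agent.McLRankThree.Orbits
import Cfsg.Agent.McLRankThree.Hemi

/-!
# Symmetries of the first suborbit normalising the point stabiliser

They carry every tabulated hemisystem onto the standard one.
-/

set_option autoImplicit false
set_option maxRecDepth 100000
set_option maxHeartbeats 2000000
set_option Elab.async false

namespace CfsgLib.McLRankThree

attribute [local irreducible] adjRows permBits tauBits

/-- A tabulated symmetry. -/
def tauF (i : ℕ) (v : V) : V := Fin.ofNat 275 (getP (tauBits.getD i 0) v.val)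

theorem tau_keys : ∀ i : Fin 4, ((List.finRange 275).map fun v => (tauF i.val v).val).Nodup := by decide +kernel

theorem tau_B : ∀ i : Fin 4, ∀ v : V, decide (InB (tauF i.val v)) = decide (InB v) := by decide +kernel

theorem tau_injective (i : Fin 4) : Function.Injective (tauF i.val) := fun a b h =>
  List.inj_on_of_nodup_map (tau_keys i) (List.mem_finRange a) (List.mem_finRange b) (congrArg Fin.val h)

/-- The word with given indices along the chain. -/
def conjWord (is : List ℕ) : List ℕ :=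
  step level0 (is.getD 0 0) ++ (step level1 (is.getD 1 0) ++ (step level2 (is.getD 2 0) ++
    (step level3 (is.getD 3 0) ++ step level4 (is.getD 4 0))))

theorem conj_ok : ∀ i : Fin 4, ∀ l : Fin 6, ∀ v : V, InB v →
    tauF i.val (tab (2 * l.val) v) = app (conjWord ((tauConj.getD i.val []).getD l.val [])) (tauF i.val v) := by
  decide +kernel

theorem sols_ok : sols.length = 108 ∧ ∀ k : Fin 108, (sols.getD k.val (0, 0, [])).2.1 < 4 ∧
    ∀ v : V, InB v → (sols.getD k.val (0, 0, [])).1.testBit v.val =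
      Adj 113 (tauF (sols.getD k.val (0, 0, [])).2.1 (app (sols.getD k.val (0, 0, [])).2.2 v)) := by
  decide +kernel

/-- A symmetry of the first suborbit normalising the group there. -/
structure Normal (σ : Equiv.Perm V) : Prop where
  inB : ∀ v, InB (σ v) ↔ InB v
  push : ∀ m ∈ M0, ∃ m' ∈ M0, ∀ u, InB u → σ (m u) = m' (σ u)

theorem Normal.pull {σ : Equiv.Perm V} (hσ : Normal σ) :
    ∀ m' ∈ M0, ∃ m ∈ M0, ∀ u, InB u → σ (m u) = m' (σ u) := by
  classical
  choose f hf hf' using fun m : M0 => hσ.push m m.2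
  have hinj : Function.Injective fun m : M0 => (⟨f m, hf m⟩ : M0) := by
    intro m n e
    refine Subtype.ext (M0_ext m.2 n.2 fun u hu => σ.injective ?_)
    rw [hf' m u hu, hf' n u hu, show f m = f n from congrArg Subtype.val e]
  intro m' hm'
  obtain ⟨m, hm⟩ := (Finite.injective_iff_surjective.mp hinj) ⟨m', hm'⟩
  exact ⟨m, m.2, fun u hu => by rw [hf' m u hu, show f m = m' from congrArg Subtype.val hm]⟩

theorem Normal.mul {σ τ : Equiv.Perm V} (hσ : Normal σ) (hτ : Normal τ) : Normal (σ * τ) := by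
  refine ⟨fun v => (hσ.inB _).trans (hτ.inB v), fun m hm => ?_⟩
  obtain ⟨m', hm', e⟩ := hτ.push m hm
  obtain ⟨m'', hm'', e'⟩ := hσ.push m' hm'
  exact ⟨m'', hm'', fun u hu => by
    show σ (τ (m u)) = m'' (σ (τ u))
    rw [e u hu, e' _ ((hτ.inB u).mpr hu)]⟩

theorem Normal.of_mem {w : Equiv.Perm V} (hw : w ∈ M0) : Normal w := by
  refine ⟨fun v => ⟨fun h => ?_, inB_M0 hw⟩, fun m hm => ⟨w * m * w⁻¹, mul_mem (mul_mem hw hm) (inv_mem hw),
    fun u _ => by simp⟩⟩
  simpa using inB_M0 (inv_mem hw) h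

/-- A tabulated symmetry as a permutation. -/
noncomputable def tauPerm (i : Fin 4) : Equiv.Perm V :=
  Equiv.ofBijective (tauF i.val) (Finite.injective_iff_bijective.mp (tau_injective i))

theorem tauPerm_apply (i : Fin 4) (v : V) : tauPerm i v = tauF i.val v := rfl

theorem tauPerm_normal (i : Fin 4) : Normal (tauPerm i) := by
  refine ⟨fun v => by simpa [decide_eq_decide, tauPerm_apply] using tau_B i v, fun m hm => ?_⟩
  induction hm using Subgroup.closure_induction with
  | mem x hx =>
    obtain ⟨l, rfl⟩ := hx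
    refine ⟨_, wperm_mem (conjWord ((tauConj.getD i.val []).getD l.val [])), fun u hu => ?_⟩
    rw [wperm_apply]
    exact conj_ok i l u hu
  | one => exact ⟨1, one_mem _, fun u _ => rfl⟩
  | mul x y hx hy ihx ihy =>
    obtain ⟨x', hx', ex⟩ := ihx
    obtain ⟨y', hy', ey⟩ := ihy
    exact ⟨x' * y', mul_mem hx' hy', fun u hu => by
      rw [Equiv.Perm.mul_apply, Equiv.Perm.mul_apply, ex _ (inB_M0 hy hu), ey u hu]⟩
  | inv x hx ihx =>
    obtain ⟨x', hx', ex⟩ := ihx
    refine ⟨x'⁻¹, inv_mem hx', fun u hu => ?_⟩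
    have h := ex (x⁻¹ u) (inB_M0 (inv_mem hx) hu)
    simp only [Equiv.Perm.inv_def, Equiv.apply_symm_apply] at h ⊢
    rw [h, Equiv.symm_apply_apply]

/-- Every tabulated hemisystem is carried onto the standard one. -/
theorem exists_sym {s : ℕ × ℕ × List ℕ} (hs : s ∈ sols) :
    ∃ σ : Equiv.Perm V, Normal σ ∧ ∀ v : V, InB v → s.1.testBit v.val = Adj 113 (σ v) := by
  obtain ⟨k, hk, rfl⟩ := List.getElem_of_mem hs
  obtain ⟨h4, h⟩ := sols_ok.2 ⟨k, sols_ok.1 ▸ hk⟩
  simp only [List.getD_eq_getElem _ _ hk] at h4 h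
  refine ⟨tauPerm ⟨_, h4⟩ * wperm sols[k].2.2, (tauPerm_normal _).mul (Normal.of_mem (wperm_mem _)),
    fun v hv => ?_⟩
  rw [Equiv.Perm.mul_apply, wperm_apply]
  exact h v hv

end CfsgLib.McLRankThree
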